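import Cfsg.Agent.Lib.ConstDiff79.Basic
import Cfsg.Agent.Lib.SL2Chars49.Counts
import Cfsg.Agent.Lib.PrimeGraph.SL2

/-!
# The three cases have a constant difference (helper79)
-/

set_option autoImplicit false
set_option linter.style.haveILetI false
set_option linter.unusedSectionVars false

namespace Cfsg.Agent.Lib.ConstDiff79

open Cfsg.Agent.Lib.Characters.Basic
open Cfsg.Agent.Lib.PSLTwo.Sylow
open Cfsg.Agent.Lib.SL2Chars49

universe u

variable {M : Ideal Cfsg.AlgInt} [M.IsMaximal] {X : Type u} [Group X] [Finite X]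

theorem isConst_one : IsConst M (1 : X) 0 := fun _ _ => sub_self _

theorem isConst_card_two (h2 : Nat.card X = 2) {u : X} (hu : u ≠ 1) : IsConst M u 2 := by
  have hall : ∀ x : X, x = 1 ∨ x = u := by
    intro x
    by_contra hc
    push Not at hc
    haveI := Fintype.ofFinite X
    classical
    have h3 : ({1, u, x} : Finset X).card = 3 := by
      rw [Finset.card_insert_of_notMem (by simp [hu.symm, hc.1.symm]), Finset.card_pair hc.2.symm]
    have := Finset.card_le_univ ({1, u, x} : Finset X)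
    rw [← Nat.card_eq_fintype_card, h2, h3] at this
    omega
  have hu2 : u * u = 1 := (hall (u * u)).resolve_right fun e => hu (mul_eq_left.1 e)
  intro χ hχ
  have hcomm : ∀ a b : X, a * b = b * a := fun a b => by
    rcases hall a with rfl | rfl <;> rcases hall b with rfl | rfl <;> simp
  have hd := Characters.Linear.degree_eq_one_of_comm hcomm χ
  have h1 : (χ : X → ℂ) 1 = 1 := hd
  have hsq := Characters.Linear.apply_mul_of_degree_one (isCharacter_irr χ) h1 u u
  rw [hu2, h1] at hsq
  rcases mul_self_eq_one_iff.1 hsq.symm with h | h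
  · refine absurd (Subtype.ext (funext fun x => ?_)) (mem_nontriv.1 hχ).1
    rcases hall x with rfl | rfl
    · exact h1
    · exact h
  · rw [h1, h]; norm_num

variable {F : Type*} [Field F] [Fintype F]

/-- In `SL(2, 2ⁿ)` every nontrivial character has degree minus value `q` at an involution. -/
theorem sl_value [DecidableEq F] [CharP F 2] {χ : Matrix.SpecialLinearGroup (Fin 2) F → ℂ}
    (hχ : Cfsg.IsIrrCharacter (Matrix.SpecialLinearGroup (Fin 2) F) χ) (hne : χ ≠ fun _ => 1)
    {g : Matrix.SpecialLinearGroup (Fin 2) F} (hg : g * g = 1) (hg1 : g ≠ 1) :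
    χ 1 - χ g = (Fintype.card F : ℂ) := by
  obtain ⟨C, hC, hcard⟩ := exists_C (F := F)
  have h2 : (2 : F) = 0 := CharTwo.two_eq_zero
  have htr : slTr g ^ 2 = 4 := by
    have he : g⁻¹ = g := inv_eq_of_mul_eq_one_right hg
    have h00 : g.1 1 1 = g.1 0 0 := by
      have := congrArg (fun m : Matrix.SpecialLinearGroup (Fin 2) F => m.1 0 0) he
      simpa [Matrix.SpecialLinearGroup.coe_inv, Matrix.adjugate_fin_two] using this
    have h4 : (4 : F) = 0 := by linear_combination (2 : F) * h2
    simp only [slTr, h00]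
    linear_combination (2 * g.1 0 0 ^ 2) * h2 - h4
  have hns : NonScalar g := by
    by_contra h
    obtain ⟨z, hz, e⟩ := scalar_eq_nu h
    rcases rt_iff.1 hz with rfl | rfl
    · exact hg1 (e.trans nu_one_zero)
    · refine hg1 (e.trans ?_)
      rw [nu_congr (CharTwo.neg_eq (1 : F)) rt_neg_one rt_one, nu_one_zero]
  obtain ⟨z, hz, x, P, hx, rfl⟩ := exists_conj_nu hns htr
  have hz1 : z = 1 := by
    rcases rt_iff.1 hz with h | h
    · exact h
    · rw [h, CharTwo.neg_eq]
  subst hz1
  have hclass := isClassFunction_of_isCharacter (IsCharacter_of_isIrrCharacter hχ)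
  rw [show χ (P * nu 1 hz x * P⁻¹) = χ (nu 1 hz x) from hclass _ _]
  have hb := isBase_of_card_rtT_eq_one hC hcard card_rtT_of_char_two hχ
  rcases hb with rfl | rfl | ⟨α, -, rfl⟩ | ⟨θ, -, rfl⟩
  · exact absurd rfl hne
  · rw [st_one, st_nu ⟨1, hz⟩ hx, sub_zero]
  · rw [pi_one, pi_nu α ⟨1, hz⟩ hx, map_one]; ring
  · have h1 : scC hC hcard ⟨1, hz⟩ = 1 := Subtype.ext nu_one_zero
    rw [dX_one, dX_nu hC hcard θ ⟨1, hz⟩ hx, h1, map_one, Units.val_one]; ring

theorem isConst_psl {n : ℕ} (hn : n ≠ 0) (hF : Fintype.card F = 2 ^ n)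
    (e : X ≃* Matrix.ProjectiveSpecialLinearGroup (Fin 2) F) {u : X} (hu : u * u = 1)
    (hu1 : u ≠ 1) : IsConst M u ((2 ^ n : ℕ) : ℂ) := by
  classical
  haveI : Fact (Nat.Prime 2) := ⟨Nat.prime_two⟩
  haveI : CharP F 2 := charP_of_card_eq_prime_pow (f := n) (by rw [hF])
  intro χ hχ
  let θ : Matrix.SpecialLinearGroup (Fin 2) F ≃* X := PrimeGraph.SL2.slEquivPSL.trans e.symm
  have h := sl_value (χ := (χ : X → ℂ) ∘ θ.toMonoidHom)
    (isIrrCharacter_comp _ θ.surjective χ.2) (fun he => (mem_nontriv.1 hχ).1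
      (Subtype.ext (funext fun x => by
        obtain ⟨g, rfl⟩ := θ.surjective x
        exact congrFun he g)))
    (g := θ.symm u) (by rw [← map_mul, hu, map_one]) (by simpa using hu1)
  simpa [hF] using h

end Cfsg.Agent.Lib.ConstDiff79
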