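import Cfsg.Agent.Lib.PrincipalFew.SingularConst
import Cfsg.Agent.Lib.PrincipalCore.Basic
import Cfsg.Agent.Lib.Chars82.PrincipalBlock
import Cfsg.Agent.Lib.Blocks.HeightZeroValue
import Cfsg.Agent.Lib.Characters.Kernel
import Cfsg.Agent.S0938
import Cfsg.Agent.S4626

/-!
# Constant degree minus value on the principal 2-block: first consequences

If `χ 1 - χ u` is the same nonzero number on the nontrivial characters of the principal block, the
nontrivial 2-elements form the class of the 2-part of `u` and the difference is a natural number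
(helper79).
-/

set_option autoImplicit false
set_option linter.style.haveILetI false
set_option linter.unusedSectionVars false

namespace Cfsg.Agent.Lib.ConstDiff79

open scoped ComplexConjugate
open Cfsg.Agent.Lib.Blocks Cfsg.Agent.Lib.Blocks.Contrib
open Cfsg.Agent.Lib.Characters.Basic

universe u

variable {M : Ideal Cfsg.AlgInt} [M.IsMaximal] {G : Type u} [Group G] [Finite G]

/-- The nontrivial characters of the principal block. -/
noncomputable def nontriv (M : Ideal Cfsg.AlgInt) (G : Type u) [Group G] [Finite G] :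
    Finset (Cfsg.IrrCharacter G) :=
  letI := Classical.decEq (Cfsg.IrrCharacter G)
  (bset (Cfsg.principalBlock M G)).erase (oneChar G)

theorem mem_nontriv {χ : Cfsg.IrrCharacter G} :
    χ ∈ nontriv M G ↔ χ ≠ oneChar G ∧ χ ∈ Cfsg.principalBlock M G := by
  classical
  simp [nontriv]

theorem sum_block {A : Type*} [AddCommMonoid A] (f : Cfsg.IrrCharacter G → A) :
    ∑ᶠ χ ∈ Cfsg.principalBlock M G, f χ = f (oneChar G) + ∑ χ ∈ nontriv M G, f χ := by
  classical
  rw [finsum_mem_bset]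
  unfold nontriv
  convert (Finset.add_sum_erase _ f (mem_bset.2 (oneChar_mem_principalBlock (M := M)))).symm

/-- The values at a 2-element are congruent to the degree. -/
theorem memLocalIdeal_value_sub (hM : Cfsg.IsPModular 2 M) (χ : Cfsg.IrrCharacter G) {z : G}
    (hz : ∃ k : ℕ, orderOf z = 2 ^ k) :
    Cfsg.MemLocalIdeal M ((χ : G → ℂ) z - (Cfsg.charDegree (χ : G → ℂ) : ℂ)) := by
  have h := memLocalIdeal_char_mul_sub hM χ (Commute.one_right z) hz (by simp)
  rwa [mul_one, char_one_eq_degree] at h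

theorem two_dvd_sum_sq (hM : Cfsg.IsPModular 2 M) (h2 : 2 ∣ Nat.card G) :
    2 ∣ 1 + ∑ χ ∈ nontriv M G, Cfsg.charDegree (χ : G → ℂ) ^ 2 := by
  haveI := Fintype.ofFinite G
  rw [← memLocalIdeal_natCast_iff hM]
  have hc := memLocalRing_blockCoeff (isPBlock_principalBlock (G := G) (M := M)) (1 : G)
  have h := memLocalIdeal_mul_right (y := _) ((memLocalIdeal_natCast_iff hM _).mpr h2) hc
  rw [Cfsg.blockCoeff, mul_inv_cancel_left₀ (Nat.cast_ne_zero.mpr Nat.card_pos.ne'),
    sum_block] at h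
  convert h using 1
  push_cast
  rw [oneChar_apply, map_one, mul_one]
  congr 1
  refine Finset.sum_congr rfl fun χ _ => ?_
  rw [conj_apply_one (isCharacter_irr χ), char_one_eq_degree, pow_two]

/-- The degrees of the nontrivial characters of the principal block have odd sum. -/
theorem not_dvd_sum_degree (hM : Cfsg.IsPModular 2 M) (h2 : 2 ∣ Nat.card G) :
    ¬ 2 ∣ ∑ χ ∈ nontriv M G, Cfsg.charDegree (χ : G → ℂ) := by
  intro h
  have h1 : 2 ∣ ∑ χ ∈ nontriv M G,
      (Cfsg.charDegree (χ : G → ℂ) ^ 2 + Cfsg.charDegree (χ : G → ℂ)) :=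
    Finset.dvd_sum fun χ _ => by
      have := Nat.even_mul_succ_self (Cfsg.charDegree (χ : G → ℂ))
      rw [even_iff_two_dvd] at this
      rwa [pow_two, ← Nat.mul_add_one]
  rw [Finset.sum_add_distrib] at h1
  have := two_dvd_sum_sq hM h2
  omega

/-- Weak orthogonality against the identity. -/
theorem weak_sum (hM : Cfsg.IsPModular 2 M) {y : G} (hy : 2 ∣ orderOf y) :
    1 + ∑ χ ∈ nontriv M G, (Cfsg.charDegree (χ : G → ℂ) : ℂ) * (χ : G → ℂ) y = 0 := by
  have h := weak_orthogonality hM (isPBlock_principalBlock (G := G)) (x := 1) (y := y⁻¹)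
    (by simp) (by rwa [orderOf_inv])
  rw [sum_block, oneChar_apply, oneChar_apply, map_one, mul_one] at h
  rw [← h]
  congr 1
  refine Finset.sum_congr rfl fun χ _ => ?_
  rw [char_one_eq_degree, ← apply_inv (isCharacter_irr χ), inv_inv]

/-- Kernel of the principal block. -/
theorem mem_core_of_forall (hM : Cfsg.IsPModular 2 M) {u : G}
    (h : ∀ χ ∈ Cfsg.principalBlock M G, (χ : G → ℂ) u = (χ : G → ℂ) 1) :
    u ∈ Cfsg.pPrimeCore 2 G := by
  haveI : Fact (Nat.Prime 2) := ⟨Nat.prime_two⟩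
  obtain ⟨K, hKn, hK, hKodd, -, -⟩ := Cfsg.Agent.S0938.result 2 M hM _ isPBlock_principalBlock
    (oneChar G) oneChar_mem_principalBlock
  haveI := hKn
  refine Cores.le_pPrimeCore_of_not_dvd hKodd ?_
  rw [← SetLike.mem_coe, hK]
  exact h

theorem dvd_of_mul_integral {K n : ℕ} (hK : K ≠ 0) {z : ℂ} (hz : IsIntegral ℤ z)
    (h : (K : ℂ) * z = (n : ℂ)) : K ∣ n := by
  obtain ⟨j, rfl⟩ := PrincipalFew.exists_int hz (m := (n : ℤ)) hK (by simpa using h)
  have h' : (K : ℤ) * j = (n : ℤ) := by exact_mod_cast h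
  exact Int.natCast_dvd_natCast.1 (Dvd.intro j h')

/-- `χ 1 - χ u` is `k` on the nontrivial characters of the principal block. -/
def IsConst (M : Ideal Cfsg.AlgInt) (u : G) (k : ℂ) : Prop :=
  ∀ χ ∈ nontriv M G, (χ : G → ℂ) 1 - (χ : G → ℂ) u = k

theorem IsConst.eq_zero_or (hM : Cfsg.IsPModular 2 M) {u : G} (h : IsConst M u 0) :
    u ∈ Cfsg.pPrimeCore 2 G := by
  refine mem_core_of_forall hM fun χ hχ => ?_
  by_cases h1 : χ = oneChar G
  · rw [h1, oneChar_apply, oneChar_apply]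
  · exact (sub_eq_zero.1 (h χ (mem_nontriv.2 ⟨h1, hχ⟩))).symm

variable {u : G} {k : ℂ}

/-- The pairing of `u` with a singular element. -/
theorem IsConst.sum_mul (hk : IsConst M u k) (hM : Cfsg.IsPModular 2 M) {h : G}
    (hh : 2 ∣ orderOf h) :
    ∑ᶠ χ ∈ Cfsg.principalBlock M G, (χ : G → ℂ) u * (χ : G → ℂ) h⁻¹ =
      -k * ∑ χ ∈ nontriv M G, (χ : G → ℂ) h⁻¹ := by
  have h1 := weak_sum hM (y := h⁻¹) (by rwa [orderOf_inv])
  rw [sum_block, oneChar_apply, oneChar_apply, one_mul, Finset.mul_sum]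
  have h2 : ∀ χ ∈ nontriv M G, (χ : G → ℂ) u * (χ : G → ℂ) h⁻¹ =
      (Cfsg.charDegree (χ : G → ℂ) : ℂ) * (χ : G → ℂ) h⁻¹ + -k * (χ : G → ℂ) h⁻¹ := fun χ hχ => by
    have h3 := hk χ hχ
    rw [char_one_eq_degree] at h3
    linear_combination (-(χ : G → ℂ) h⁻¹) * h3
  rw [Finset.sum_congr rfl h2, Finset.sum_add_distrib, ← add_assoc, h1, zero_add]

/-- All nontrivial 2-elements are conjugate to the 2-part of `u`. -/
theorem IsConst.isConj (hk : IsConst M u k) (hk0 : k ≠ 0) (hM : Cfsg.IsPModular 2 M) {s z : G}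
    (hs : Cfsg.IsPPart 2 u s) (hz : ∃ n : ℕ, orderOf z = 2 ^ n) (hz1 : z ≠ 1) : IsConj s z := by
  by_contra hne
  obtain ⟨n, hn⟩ := hz
  have hn0 : n ≠ 0 := fun e => hz1 (orderOf_eq_one_iff.1 (by rw [hn, e, pow_zero]))
  have h2 : 2 ∣ orderOf z := hn ▸ dvd_pow_self 2 hn0
  have h1 := hk.sum_mul hM h2
  rw [sum_block_eq_zero hM hs (isPPart_self Nat.prime_two ⟨n, hn⟩) hne isPBlock_principalBlock]
    at h1
  have h3 : ∑ χ ∈ nontriv M G, (χ : G → ℂ) z⁻¹ = 0 :=
    (mul_eq_zero.1 h1.symm).resolve_left (neg_ne_zero.2 hk0)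
  have h4 : Cfsg.MemLocalIdeal M (∑ χ ∈ nontriv M G,
      ((χ : G → ℂ) z⁻¹ - (Cfsg.charDegree (χ : G → ℂ) : ℂ))) :=
    memLocalIdeal_sum _ fun χ _ => memLocalIdeal_value_sub hM χ ⟨n, by rw [orderOf_inv, hn]⟩
  rw [Finset.sum_sub_distrib, h3, zero_sub, ← Nat.cast_sum] at h4
  have h5 := memLocalIdeal_neg h4
  rw [neg_neg, memLocalIdeal_natCast_iff hM] at h5
  exact not_dvd_sum_degree hM (h2.trans (orderOf_dvd_natCard z)) h5

/-- The element is singular. -/
theorem IsConst.two_dvd_orderOf (hk : IsConst M u k) (hk0 : k ≠ 0) (hM : Cfsg.IsPModular 2 M)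
    (h2 : 2 ∣ Nat.card G) : 2 ∣ orderOf u := by
  by_contra hu
  haveI : Fact (Nat.Prime 2) := ⟨Nat.prime_two⟩
  obtain ⟨z, hz⟩ := exists_prime_orderOf_dvd_card' 2 h2
  have h := hk.isConj hk0 hM (isPPart_one_of_regular hu) ⟨1, by rw [hz, pow_one]⟩
    (fun e => by rw [e, orderOf_one] at hz; omega)
  rw [isConj_one_right] at h
  rw [h, orderOf_one] at hz
  omega

/-- The difference is a natural number exceeding some degree. -/
theorem IsConst.exists_nat (hk : IsConst M u k) (hM : Cfsg.IsPModular 2 M) (hu : 2 ∣ orderOf u)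
    (h2 : 2 ∣ Nat.card G) :
    ∃ K : ℕ, k = (K : ℂ) ∧ 0 < K ∧
      ∃ χ ∈ nontriv M G, Cfsg.charDegree (χ : G → ℂ) < K := by
  set A := ∑ χ ∈ nontriv M G, Cfsg.charDegree (χ : G → ℂ) with hA
  set B := 1 + ∑ χ ∈ nontriv M G, Cfsg.charDegree (χ : G → ℂ) ^ 2 with hB
  have hA0 : A ≠ 0 := fun h => not_dvd_sum_degree hM h2 (by rw [← hA, h]; exact dvd_zero 2)
  obtain ⟨χ₀, hχ₀⟩ : (nontriv M G).Nonempty := Finset.nonempty_of_sum_ne_zero (hA ▸ hA0)
  have h1 := weak_sum hM hu
  have hrel : (A : ℂ) * k = (B : ℂ) := by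
    rw [hA, hB]
    push_cast
    rw [Finset.sum_mul]
    have h3 : ∀ χ ∈ nontriv M G, (Cfsg.charDegree (χ : G → ℂ) : ℂ) * k =
        (Cfsg.charDegree (χ : G → ℂ) : ℂ) ^ 2 -
          (Cfsg.charDegree (χ : G → ℂ) : ℂ) * (χ : G → ℂ) u := fun χ hχ => by
      rw [← hk χ hχ, char_one_eq_degree]; ring
    rw [Finset.sum_congr rfl h3, Finset.sum_sub_distrib]
    linear_combination (-1 : ℂ) * h1
  have hint : IsIntegral ℤ k := by
    rw [← hk χ₀ hχ₀]
    exact (isIntegral_apply (isCharacter_irr χ₀) 1).sub (isIntegral_apply (isCharacter_irr χ₀) u)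
  obtain ⟨j, rfl⟩ := PrincipalFew.exists_int hint (m := (B : ℤ)) hA0 (by simpa using hrel)
  have hj : (A : ℤ) * j = (B : ℤ) := by exact_mod_cast hrel
  have hjpos : 0 < j := by
    have : (0 : ℤ) < A * j := by rw [hj, hB]; positivity
    exact pos_of_mul_pos_right this (Int.natCast_nonneg A)
  lift j to ℕ using hjpos.le with K
  refine ⟨K, by simp, by omega, ?_⟩
  by_contra hall
  push Not at hall
  have hle : A * K ≤ ∑ χ ∈ nontriv M G, Cfsg.charDegree (χ : G → ℂ) ^ 2 := by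
    rw [hA, Finset.sum_mul]
    exact Finset.sum_le_sum fun χ hχ => by
      rw [pow_two]; exact Nat.mul_le_mul_left _ (hall χ hχ)
  have : A * K = B := by exact_mod_cast hj
  omega

/-- A member of the principal block trivial on a normal subgroup of odd index which together with
the centraliser of a Sylow 2-subgroup generates the group is trivial. -/
theorem eq_one_of_trivialOn (hM : Cfsg.IsPModular 2 M) (P : Sylow 2 G) (N : Subgroup G) [N.Normal]
    (hidx : ¬ 2 ∣ N.index)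
    (hsup : N ⊔ Subgroup.centralizer ((P : Subgroup G) : Set G) = ⊤) {χ : Cfsg.IrrCharacter G}
    (hχ : χ ∈ Cfsg.principalBlock M G) (hN : ∀ n ∈ N, (χ : G → ℂ) n = (χ : G → ℂ) 1) :
    χ = oneChar G := by
  classical
  haveI : Fact (Nat.Prime 2) := ⟨Nat.prime_two⟩
  obtain ⟨φ, hφc, hφ, hirr⟩ := Characters.Kernel.exists_descend N (isCharacter_irr χ) hN
  let Φ : Cfsg.IrrCharacter (G ⧸ N) := ⟨φ, hirr χ.2⟩
  have happ : ∀ g : G, (χ : G → ℂ) g = φ (g : G ⧸ N) := fun g => (congrFun hφ g).symm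
  suffices hΦ : Φ = oneChar (G ⧸ N) by
    refine Subtype.ext (funext fun g => ?_)
    rw [happ, oneChar_apply]
    exact congrFun (congrArg Subtype.val hΦ) _
  by_contra hne
  haveI := Fintype.ofFinite (G ⧸ N)
  set d := Cfsg.charDegree (Φ : G ⧸ N → ℂ) with hd
  have hQodd : ¬ 2 ∣ Nat.card (G ⧸ N) := by rwa [← Subgroup.index_eq_card]
  have hdodd : ¬ 2 ∣ d := fun h => hQodd (h.trans (Chars82.PrincipalBlock.degree_dvd_card Φ))
  have h1 : (χ : G → ℂ) 1 = (d : ℂ) := by
    rw [happ, QuotientGroup.mk_one, hd, ← char_one_eq_degree]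
  have hq : ∀ q : G ⧸ N, Cfsg.MemLocalIdeal M ((d : ℂ) - φ q) := by
    intro q
    obtain ⟨g, rfl⟩ := QuotientGroup.mk'_surjective N q
    have hg : g ∈ (↑(N ⊔ Subgroup.centralizer ((P : Subgroup G) : Set G)) : Set G) := by
      rw [hsup]; trivial
    rw [Subgroup.normal_mul] at hg
    obtain ⟨n, hn, c, hc, rfl⟩ := Set.mem_mul.1 hg
    obtain ⟨t, ht1, ht2⟩ := Nat.chineseRemainder
      (show Nat.Coprime (Nat.card (G ⧸ N)) (2 ^ (orderOf c).factorization 2) from
        ((Nat.prime_two.coprime_iff_not_dvd.2 hQodd).symm).pow_right _) 1 0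
    have himg : QuotientGroup.mk' N (c ^ t) = QuotientGroup.mk' N (n * c) := by
      rw [map_pow, map_mul, show QuotientGroup.mk' N n = 1 from (QuotientGroup.eq_one_iff n).2 hn,
        one_mul]
      refine (pow_eq_pow_iff_modEq.2 ?_).trans (pow_one _)
      exact (Nat.ModEq.of_dvd (orderOf_dvd_natCard _) ht1)
    rw [← himg]
    set f := c ^ t with hf
    have hodd : ¬ 2 ∣ orderOf f := by
      intro hdvd
      have hpow : f ^ (orderOf c / 2 ^ (orderOf c).factorization 2) = 1 := by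
        rw [hf, ← pow_mul, ← orderOf_dvd_iff_pow_eq_one]
        refine dvd_trans (dvd_of_eq (Nat.ordProj_mul_ordCompl_eq_self (orderOf c) 2).symm)
          (Nat.mul_dvd_mul_right (Nat.modEq_zero_iff_dvd.1 ht2) _)
      exact Nat.not_dvd_ordCompl Nat.prime_two (orderOf_pos c).ne'
        (hdvd.trans (orderOf_dvd_of_pow_eq_one hpow))
    have hfC : f ∈ Subgroup.centralizer ((P : Subgroup G) : Set G) := pow_mem hc t
    have hi : ¬ 2 ∣ (Subgroup.centralizer ({f} : Set G)).index := fun h =>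
      P.not_dvd_index (h.trans (Subgroup.index_dvd_of_le fun x hx =>
        Subgroup.mem_centralizer_singleton_iff.2 (Subgroup.mem_centralizer_iff.1 hfC x hx)))
    have h2 := Chars82.PrincipalBlock.mem_principalBlock_iff.1 hχ f
    have h3 := memLocalIdeal_mul_left (x := (d : ℂ) *
      ((Subgroup.centralizer ({f} : Set G)).index : ℂ)⁻¹) ((localRing M).mul_mem
        (mem_localRing_of_isIntegral (isIntegral_natCast d))
        (natCast_inv_mem_localRing hM hi)) h2
    convert h3 using 1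
    have hi0 : ((Subgroup.centralizer ({f} : Set G)).index : ℂ) ≠ 0 :=
      Nat.cast_ne_zero.2 Subgroup.index_ne_zero_of_finite
    have hd0 : (d : ℂ) ≠ 0 := Nat.cast_ne_zero.2 fun h => hdodd (h ▸ dvd_zero 2)
    rw [Cfsg.centralChar, h1, happ f]
    show (d : ℂ) - φ (f : G ⧸ N) = _
    field_simp
  have h0 := classInner_irr_of_ne hne
  rw [Cfsg.classInner, mul_eq_zero, inv_eq_zero] at h0
  have h0' := h0.resolve_left (Nat.cast_ne_zero.2 Nat.card_pos.ne')
  simp only [oneChar_apply, map_one, mul_one] at h0'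
  have h4 : Cfsg.MemLocalIdeal M (∑ q : G ⧸ N, ((d : ℂ) - φ q)) :=
    memLocalIdeal_sum _ fun q _ => hq q
  rw [Finset.sum_sub_distrib, show ∑ q : G ⧸ N, φ q = 0 from h0', sub_zero, Finset.sum_const,
    Finset.card_univ, nsmul_eq_mul, ← Nat.cast_mul, memLocalIdeal_natCast_iff hM,
    ← Nat.card_eq_fintype_card] at h4
  exact (Nat.prime_two.dvd_mul.1 h4).elim hQodd hdodd

end Cfsg.Agent.Lib.ConstDiff79
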