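import Cfsg.Agent.Lib.ConstDiff79.Basic
import Cfsg.Agent.Lib.BrauerMap.Covering
import Cfsg.Agent.Lib.JankoThompson.Block

/-!
# The centraliser side: a central involution over a normal subgroup with four special columns
(helper79)
-/

set_option autoImplicit false
set_option linter.style.haveILetI false
set_option linter.unusedSectionVars false

namespace Cfsg.Agent.Lib.ConstDiff79

open scoped ComplexConjugate
open Cfsg.Agent.Lib.Blocks Cfsg.Agent.Lib.Blocks.Contrib
open Cfsg.Agent.Lib.Characters.Basic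
open Cfsg.Agent.Lib.BrauerMap

universe u

variable {M : Ideal Cfsg.AlgInt} [M.IsMaximal] {H : Type u} [Group H] [Finite H]

/-- A central element acts by a scalar. -/
theorem exists_scalar {s : H} (hs : ∀ g, Commute s g) (ψ : Cfsg.IrrCharacter H) :
    ∃ a : ℂ, ∀ g, (ψ : H → ℂ) (s * g) = a * (ψ : H → ℂ) g := by
  obtain ⟨n, ρ, hirr, hρ⟩ := ψ.2
  haveI := hirr
  obtain ⟨a, ha⟩ := Clifford.Rep.schur ρ (ρ s) fun g => by rw [← map_mul, ← map_mul, (hs g).eq]
  refine ⟨a, fun g => ?_⟩
  rw [← hρ]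
  simp only [Representation.character, map_mul, ha, smul_mul_assoc, one_mul, map_smul, smul_eq_mul]

/-- A sign character splitting a central involution off. -/
theorem exists_sign (P : Sylow 2 H) (N : Subgroup H) [N.Normal] {s : H} (hs : ∀ g, Commute s g)
    (hs2 : orderOf s = 2) (hsN : s ∉ N) (hP : (P : Subgroup H) ≤ N ⊔ Subgroup.zpowers s) :
    ∃ σ : H →* ℂˣ, (∀ g, σ g = 1 ∨ σ g = -1) ∧ (∀ n ∈ N, σ n = 1) ∧ σ s = -1 := by
  classical
  haveI : Fact (Nat.Prime 2) := ⟨Nat.prime_two⟩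
  set π := QuotientGroup.mk' N with hπ
  set z := π s with hz
  have hz2 : orderOf z = 2 := orderOf_eq_prime (by rw [hz, ← map_pow, ← hs2, pow_orderOf_eq_one,
    map_one]) fun h => hsN ((QuotientGroup.eq_one_iff s).1 h)
  haveI : (Subgroup.zpowers z).Normal := ⟨fun x hx g => by
    obtain ⟨g, rfl⟩ := QuotientGroup.mk'_surjective N g
    obtain ⟨j, rfl⟩ := Subgroup.mem_zpowers_iff.1 hx
    have hc : Commute (π g) z := ((hs g).map π).symm
    rw [(hc.zpow_right j).eq, mul_inv_cancel_right]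
    exact Subgroup.zpow_mem_zpowers z j⟩
  have hidx : ¬ 2 ∣ (Subgroup.zpowers z).index := by
    have h1 : (N ⊔ Subgroup.zpowers s).map π = Subgroup.zpowers z := by
      rw [Subgroup.map_sup, MonoidHom.map_zpowers, (Subgroup.map_eq_bot_iff N).2
        (le_of_eq (QuotientGroup.ker_mk' N).symm), bot_sup_eq]
    rw [← h1]
    exact fun h => P.not_dvd_index ((h.trans (Subgroup.index_map_dvd _
      (QuotientGroup.mk'_surjective N))).trans (Subgroup.index_dvd_of_le hP))
  obtain ⟨D, hD⟩ := Subgroup.exists_right_complement'_of_coprime (N := Subgroup.zpowers z)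
    (by rw [Nat.card_zpowers, hz2]; exact Nat.prime_two.coprime_iff_not_dvd.2 hidx)
  have hD2 : (D.comap π).index = 2 := by
    rw [Subgroup.index_comap_of_surjective _ (QuotientGroup.mk'_surjective N), hD.index_eq_card,
      Nat.card_zpowers, hz2]
  let σ : H →* ℂˣ :=
    { toFun := fun g => if g ∈ D.comap π then 1 else -1
      map_one' := if_pos (one_mem _)
      map_mul' := fun a b => by
        have h := Subgroup.mul_mem_iff_of_index_two hD2 (a := a) (b := b)
        by_cases ha : a ∈ D.comap π <;> by_cases hb : b ∈ D.comap π <;> simp [ha, hb, h] }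
  refine ⟨σ, fun g => ?_, fun n hn => if_pos ?_, if_neg fun hsD => ?_⟩
  · by_cases h : g ∈ D.comap π
    · exact Or.inl (if_pos h)
    · exact Or.inr (if_neg h)
  · show π n ∈ D
    rw [show π n = 1 from (QuotientGroup.eq_one_iff n).2 hn]
    exact one_mem D
  · have h1 : z ∈ Subgroup.zpowers z ⊓ D := ⟨Subgroup.mem_zpowers z, hsD⟩
    rw [hD.disjoint.eq_bot, Subgroup.mem_bot] at h1
    rw [h1, orderOf_one] at hz2
    omega

/-- Constituents on a normal subgroup of members of the principal block are in the principal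
block. -/
theorem mem_principalBlock_of_constituent (hM : Cfsg.IsPModular 2 M) (N : Subgroup H) [N.Normal]
    [Fintype H] [Fintype N] {ψ : Cfsg.IrrCharacter H} (hψ : ψ ∈ Cfsg.principalBlock M H)
    {θ : Cfsg.IrrCharacter N}
    (hθ : Cfsg.classInner (Normal.resFun N (ψ : H → ℂ)) (θ : N → ℂ) ≠ 0) :
    θ ∈ Cfsg.principalBlock M N := by
  have hone : Cfsg.classInner (Normal.resFun N (oneChar H : H → ℂ)) (oneChar N : N → ℂ) ≠ 0 := by
    rw [show Normal.resFun N (oneChar H : H → ℂ) = (oneChar N : N → ℂ) from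
      funext fun _ => rfl, classInner_self_irr]
    exact one_ne_zero
  obtain ⟨g, hg⟩ := Covering.exists_conj_mem_of_constituents N
    (sameBlock_symm (χ := oneChar H) (ψ := ψ) hψ) hθ hone
  have he : Normal.conjIrr N g (oneChar N) = oneChar N := Subtype.ext (funext fun _ => rfl)
  rw [he] at hg
  exact sameBlock_symm (χ := θ) (ψ := oneChar N) hg

/-- A member of the principal block with four columns not summing to zero is trivial on `N`. -/
theorem comb_zero_or_trivialOn (hM : Cfsg.IsPModular 2 M) (N : Subgroup H) [N.Normal]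
    {a b c d : N} (hcomb : ∀ θ ∈ Cfsg.principalBlock M N, θ ≠ oneChar N →
      (θ : N → ℂ) a + (θ : N → ℂ) b + (θ : N → ℂ) c + (θ : N → ℂ) d = 0)
    {ψ : Cfsg.IrrCharacter H} (hψ : ψ ∈ Cfsg.principalBlock M H) :
    (ψ : H → ℂ) a + (ψ : H → ℂ) b + (ψ : H → ℂ) c + (ψ : H → ℂ) d = 0 ∨
      ∀ n ∈ N, (ψ : H → ℂ) n = (ψ : H → ℂ) 1 := by
  classical
  haveI := Fintype.ofFinite H
  haveI := Fintype.ofFinite N
  haveI := Fintype.ofFinite (Cfsg.IrrCharacter N)
  by_cases h1 : Cfsg.classInner (fun n : N => (ψ : H → ℂ) n) (oneChar N : N → ℂ) = 0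
  swap
  · right
    intro n hn
    have h := Clifford.Basic.restrict_eq_smul N ψ.2 (oneChar N) h1 fun g => rfl
    have ha := congrFun h ⟨n, hn⟩
    have hb := congrFun h 1
    simp only [Pi.smul_apply, oneChar_apply, OneMemClass.coe_one] at ha hb
    exact ha.trans hb.symm
  left
  have hr : Cfsg.IsCharacter N (fun n : N => (ψ : H → ℂ) n) :=
    isCharacter_comp N.subtype (isCharacter_irr ψ)
  have hexp := Characters.Complete.classFunction_eq_sum (isClassFunction_of_isCharacter hr)
  have hx : ∀ n : N, (ψ : H → ℂ) n = ∑ θ : Cfsg.IrrCharacter N,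
      Cfsg.classInner (fun n : N => (ψ : H → ℂ) n) (θ : N → ℂ) * (θ : N → ℂ) n := fun n => by
    have := congrFun hexp n
    simpa [Finset.sum_apply] using this
  rw [hx, hx, hx, hx, ← Finset.sum_add_distrib, ← Finset.sum_add_distrib, ← Finset.sum_add_distrib]
  refine Finset.sum_eq_zero fun θ _ => ?_
  rw [← mul_add, ← mul_add, ← mul_add]
  by_cases hθ : Cfsg.classInner (fun n : N => (ψ : H → ℂ) n) (θ : N → ℂ) = 0
  · rw [hθ, zero_mul]
  · rw [hcomb θ (mem_principalBlock_of_constituent hM N hψ hθ)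
      (fun e => hθ (by rw [e]; exact h1)), mul_zero]

/-- The four columns against a further element of the section of `s`. -/
theorem sum_cols (hM : Cfsg.IsPModular 2 M) (P : Sylow 2 H) (N : Subgroup H) [N.Normal] {s y : H}
    (hs : ∀ g, Commute s g) (hs2 : orderOf s = 2) (hsN : s ∉ N)
    (hP : (P : Subgroup H) ≤ N ⊔ Subgroup.zpowers s)
    (hsup : N ⊔ Subgroup.zpowers s ⊔ Subgroup.centralizer ((P : Subgroup H) : Set H) = ⊤)
    (hy : ¬ 2 ∣ orderOf y) {a b c d : N}
    (hcomb : ∀ θ ∈ Cfsg.principalBlock M N, θ ≠ oneChar N →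
      (θ : N → ℂ) a + (θ : N → ℂ) b + (θ : N → ℂ) c + (θ : N → ℂ) d = 0) :
    ∑ᶠ ψ ∈ Cfsg.principalBlock M H, (ψ : H → ℂ) (s * y) *
      conj ((ψ : H → ℂ) (s * a) + (ψ : H → ℂ) (s * b) + (ψ : H → ℂ) (s * c) +
        (ψ : H → ℂ) (s * d)) = 8 := by
  classical
  haveI : Fact (Nat.Prime 2) := ⟨Nat.prime_two⟩
  obtain ⟨σ, hσ, hσN, hσs⟩ := exists_sign P N hs hs2 hsN hP
  set S := Characters.Linear.linChar σ with hS
  have hSv : ∀ g, (S : H → ℂ) g = (σ g : ℂ) := fun g => Characters.Linear.linChar_apply σ g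
  have hSB : S ∈ Cfsg.principalBlock M H := by
    have h := JankoThompson.sameBlock_sign hM σ hσ (oneChar H) S fun g => by
      rw [hSv, oneChar_apply, one_mul]
    exact h
  have hSne : oneChar H ≠ S := fun h => by
    have := congrArg (fun χ : Cfsg.IrrCharacter H => (χ : H → ℂ) s) h
    simp only [oneChar_apply, hSv, hσs] at this
    norm_num at this
  have hsq : ∀ g, (σ g : ℂ) * σ g = 1 := fun g => by rcases hσ g with e | e <;> rw [e] <;> simp
  set T := N ⊔ Subgroup.zpowers s with hT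
  haveI : (Subgroup.zpowers s).Normal := ⟨fun x hx g => by
    obtain ⟨j, rfl⟩ := Subgroup.mem_zpowers_iff.1 hx
    rw [((hs g).symm.zpow_right j).eq, mul_inv_cancel_right]
    exact Subgroup.zpow_mem_zpowers s j⟩
  have hTidx : ¬ 2 ∣ T.index := fun h => P.not_dvd_index (h.trans (Subgroup.index_dvd_of_le hP))
  -- a member trivial on `N` is `1` or `σ`
  have hcases : ∀ ψ ∈ Cfsg.principalBlock M H, (∀ n ∈ N, (ψ : H → ℂ) n = (ψ : H → ℂ) 1) →
      ψ = oneChar H ∨ ψ = S := by
    intro ψ hψ hN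
    obtain ⟨w, hw⟩ := exists_scalar hs ψ
    have hwsq : w * w = 1 := by
      have h1 := hw s
      rw [← pow_two, ← hs2, pow_orderOf_eq_one] at h1
      rw [show (ψ : H → ℂ) s = w * (ψ : H → ℂ) 1 by rw [← hw, mul_one]] at h1
      exact mul_right_cancel₀ (apply_one_ne_zero ψ) (by linear_combination -h1)
    have htriv : ∀ θ : Cfsg.IrrCharacter H, θ ∈ Cfsg.principalBlock M H →
        (∀ n ∈ N, (θ : H → ℂ) n = (θ : H → ℂ) 1) → (θ : H → ℂ) s = (θ : H → ℂ) 1 →
        θ = oneChar H := fun θ hθ hθN hθs => by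
      refine eq_one_of_trivialOn hM P T hTidx hsup hθ fun n hn => ?_
      have hle : T ≤ Characters.Kernel.charKer (isCharacter_irr θ) := sup_le
        (fun x hx => (Characters.Kernel.mem_charKer (isCharacter_irr θ) x).2 (hθN x hx))
        (Subgroup.zpowers_le.2 ((Characters.Kernel.mem_charKer (isCharacter_irr θ) s).2 hθs))
      exact (Characters.Kernel.mem_charKer (isCharacter_irr θ) n).1 (hle hn)
    have hψs : (ψ : H → ℂ) s = w * (ψ : H → ℂ) 1 := by rw [← hw, mul_one]
    rcases mul_self_eq_one_iff.1 hwsq with rfl | rfl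
    · exact Or.inl (htriv ψ hψ hN (by rw [hψs, one_mul]))
    · right
      let tw : Cfsg.IrrCharacter H := ⟨_, Characters.Linear.isIrrCharacter_linear_mul
        (lam := (S : H → ℂ)) (χ := (ψ : H → ℂ)) (isCharacter_irr _)
        (by rw [hSv, map_one, Units.val_one]) ψ.2⟩
      have htw : ∀ g, (tw : H → ℂ) g = (ψ : H → ℂ) g * (σ g : ℂ) := fun g => by
        show (S : H → ℂ) g * _ = _
        rw [hSv, mul_comm]
      have h1 := htriv tw (sameBlock_trans (χ := oneChar H) (ψ := ψ) (θ := tw) hψ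
        (JankoThompson.sameBlock_sign hM σ hσ ψ tw htw)) (fun n hn => by
          rw [htw, htw, hσN n hn, map_one, hN n hn]) (by
          rw [htw, htw, hσs, map_one, hψs]; simp)
      refine Subtype.ext (funext fun g => ?_)
      have h2 : (tw : H → ℂ) g = 1 := by rw [h1, oneChar_apply]
      rw [htw] at h2
      rw [hSv]
      linear_combination (σ g : ℂ) * h2 - (ψ : H → ℂ) g * hsq g
  have hzero : ∀ ψ ∈ Cfsg.principalBlock M H, ψ ≠ oneChar H → ψ ≠ S →
      (ψ : H → ℂ) (s * y) * conj ((ψ : H → ℂ) (s * a) + (ψ : H → ℂ) (s * b) + (ψ : H → ℂ) (s * c) +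
        (ψ : H → ℂ) (s * d)) = 0 := by
    intro ψ hψ h1 h2
    rcases comb_zero_or_trivialOn hM N hcomb hψ with h | h
    · obtain ⟨w, hw⟩ := exists_scalar hs ψ
      rw [hw a, hw b, hw c, hw d, ← mul_add, ← mul_add, ← mul_add, h, mul_zero, map_zero,
        mul_zero]
    · exact ((hcases ψ hψ h).elim h1 h2).elim
  rw [finsum_mem_bset, Finset.sum_eq_add (oneChar H) S hSne
    (fun ψ hψ hne => hzero ψ (mem_bset.1 hψ) hne.1 hne.2)
    (fun h => absurd (mem_bset.2 oneChar_mem_principalBlock) h)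
    (fun h => absurd (mem_bset.2 hSB) h)]
  have hσy : σ y = 1 := by
    rcases hσ y with h | h
    · exact h
    · exfalso
      have h1 : σ y ^ orderOf y = 1 := by rw [← map_pow, pow_orderOf_eq_one, map_one]
      rw [h, (Nat.odd_iff.2 (Nat.two_dvd_ne_zero.1 hy)).neg_one_pow] at h1
      have := congrArg Units.val h1
      norm_num at this
  simp only [oneChar_apply, hSv, map_mul, hσs, hσy, hσN _ a.2, hσN _ b.2, hσN _ c.2, hσN _ d.2,
    mul_one, Units.val_neg, Units.val_one]
  norm_num [map_ofNat]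

end Cfsg.Agent.Lib.ConstDiff79
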