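import Cfsg.Agent.Lib.ConstDiff79.Tools
import Cfsg.Agent.Lib.Walter.KnownFacts

/-!
# The even characteristic case (helper79)
-/

set_option autoImplicit false
set_option linter.style.haveILetI false
set_option linter.unusedSectionVars false

namespace Cfsg.Agent.Lib.ConstDiff79

open Subgroup

universe u

variable {M : Ideal Cfsg.AlgInt} [M.IsMaximal] {G : Type u} [Group G] [Finite G]

theorem even_case {u s : G} {K : ℕ} (h : Setting M u s K) (L : Subgroup G) [L.Normal]
    (hP : ∀ P : Sylow 2 G, (P : Subgroup G) ≤ L ∧ L ⊔ centralizer ((P : Subgroup G) : Set G) = ⊤)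
    (hCL : centralizer (L : Set G) = ⊥) {F : Type} [Field F] [Fintype F] {n : ℕ} (hn : 2 ≤ n)
    (hF : Fintype.card F = 2 ^ n) (e : L ≃* Matrix.ProjectiveSpecialLinearGroup (Fin 2) F) :
    u * u = 1 ∧ u ≠ 1 ∧ Nonempty (G ≃* Matrix.ProjectiveSpecialLinearGroup (Fin 2) F) := by
  classical
  haveI : Fact (Nat.Prime 2) := ⟨Nat.prime_two⟩
  haveI : CharP F 2 := charP_of_card_eq_prime_pow (f := n) (by rw [hF])
  have hfacts := Walter.Known.even_facts hn hF e
  obtain ⟨P, hsP⟩ := (IsPGroup.of_card (G := zpowers s) (n := 1)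
    (by rw [Nat.card_zpowers, h.s_inv, pow_one])).exists_le_sylow
  have hs : s ∈ (P : Subgroup G) := hsP (mem_zpowers s)
  obtain ⟨hPL, hsup⟩ := hP P
  set sL : L := ⟨s, hPL hs⟩ with hsL
  have hsL2 : orderOf sL = 2 := by rw [hsL, Subgroup.orderOf_mk, h.s_inv]
  have hexp : ∀ x : L, x * sL = sL * x → x * x = 1 := fun x hx => e.injective (by
    rw [map_mul, map_one]
    exact Walter.Known.psl_exponent_two (u := e sL) (by rw [MulEquiv.orderOf_eq, hsL2])
      (by rw [← map_mul, ← map_mul, hx]))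
  set Q : Subgroup G := L ⊓ centralizer ({s} : Set G) with hQ
  have hQp : IsPGroup 2 Q := fun x => ⟨1, by
    have h1 := hexp ⟨x, x.2.1⟩ (Subtype.ext (mem_centralizer_singleton_iff.1 x.2.2))
    refine Subtype.ext ?_
    rw [pow_one, coe_pow, pow_two, OneMemClass.coe_one]
    exact congrArg Subtype.val h1⟩
  have hPQ : (P : Subgroup G) ≤ Q := fun x hx =>
    ⟨hPL hx, mem_centralizer_singleton_iff.2 (h.comm P hx hs)⟩
  have hQP := P.3 hQp hPQ
  have hLtop : L = ⊤ := by
    refine top_le_iff.1 (hsup ▸ sup_le le_rfl (centralizer_le_of_odd P hPL fun f hf hodd => ?_))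
    have ha : (MulAut.conjNormal f : MulAut L) = 1 := by
      refine hfacts.aut sL hsL2 _ (hodd.of_dvd_nat (orderOf_map_dvd _ f)) fun x hx => ?_
      have hxP : (x : G) ∈ (P : Subgroup G) :=
        hQP ▸ ⟨x.2, mem_centralizer_singleton_iff.2 (congrArg Subtype.val hx)⟩
      refine Subtype.ext ?_
      rw [MulAut.conjNormal_apply, ← mem_centralizer_iff.1 hf x hxP, mul_inv_cancel_right]
    have hf1 : f ∈ centralizer (L : Set G) := mem_centralizer_iff.2 fun x hx => by
      have := congrArg Subtype.val (DFunLike.congr_fun ha ⟨x, hx⟩)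
      rw [MulAut.conjNormal_apply, MulAut.one_apply] at this
      exact (mul_inv_eq_iff_eq_mul.1 this).symm
    rw [hCL, mem_bot] at hf1
    rw [hf1]
    exact one_mem L
  obtain ⟨y, hy, hc, -, -⟩ := id h.part
  have hus : u * s = s * u := by
    rw [← hy, mul_assoc, ← hc.eq]
  refine ⟨?_, fun he => ?_, ⟨((MulEquiv.subgroupCongr hLtop).trans Subgroup.topEquiv).symm.trans e⟩⟩
  · exact congrArg Subtype.val (hexp ⟨u, hLtop ▸ mem_top u⟩ (Subtype.ext hus))
  · have := h.singular
    rw [he, orderOf_one] at this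
    omega

end Cfsg.Agent.Lib.ConstDiff79
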