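import Cfsg.Agent.Lib.JankoThompson.Psl
import Cfsg.Agent.Lib.JankoThompson.SLValues
import Cfsg.Agent.Lib.JankoThompson.GSide.Quad
import Cfsg.Agent.Lib.JankoThompson.GSide.Proj
import Cfsg.Agent.Lib.SL2Chars49.McKayLocal

/-!
# The principal 2-block of `PSL(2, q)`, `q ≡ 3, 5 (mod 8)`, at four columns

The columns of two unipotent classes, an element of a torus and a singular element add up to `4` on
the trivial character and `0` on the others (helper79).
-/

set_option autoImplicit false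
set_option linter.style.haveILetI false
set_option linter.unusedSectionVars false

namespace Cfsg.Agent.Lib.ConstDiff79

open Subgroup
open Cfsg.Agent.Lib.Characters.Basic
open Cfsg.Agent.Lib.PSLTwo.Sylow
open Cfsg.Agent.Lib.SL2Chars49
open Cfsg.Agent.Lib.JankoThompson (sgnQ)
open Cfsg.Agent.Lib.JankoThompson.GSide (KleinPart Quad quadDeg)

universe u

variable {G : Type u} [Group G] [Finite G] {K : Subgroup G} {F : Type} [Field F] [Fintype F]

local notation "PSL" => Matrix.ProjectiveSpecialLinearGroup (Fin 2) F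
local notation "SL" => Matrix.SpecialLinearGroup (Fin 2) F
local notation "q" => Fintype.card F

/-- A Sylow 2-subgroup is its own centraliser. -/
theorem centralizer_sylow (hB : Walter.Known.OddBasic ↥K) (P : Sylow 2 ↥K) :
    centralizer ((P : Subgroup ↥K) : Set ↥K) = (P : Subgroup ↥K) := by
  obtain ⟨h4, hsq⟩ := hB.sylow P
  haveI : Nontrivial ↥(P : Subgroup ↥K) := Finite.one_lt_card_iff_nontrivial.1 (by omega)
  obtain ⟨⟨a, ha⟩, ha1⟩ := exists_ne (1 : ↥(P : Subgroup ↥K))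
  have ha1' : a ≠ 1 := fun h => ha1 (Subtype.ext h)
  obtain ⟨b, hb, hbn⟩ : ∃ b ∈ (P : Subgroup ↥K), b ∉ zpowers a := by
    by_contra hno
    push Not at hno
    have := Subgroup.card_le_of_le (show (P : Subgroup ↥K) ≤ zpowers a from hno)
    rw [h4, Nat.card_zpowers] at this
    have := orderOf_le_of_pow_eq_one (x := a) two_pos (by rw [pow_two]; exact hsq a ha)
    omega
  have hoa : orderOf a = 2 := orderOf_eq_prime (by rw [pow_two]; exact hsq a ha) ha1'
  have hob : orderOf b = 2 :=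
    orderOf_eq_prime (by rw [pow_two]; exact hsq b hb) fun h => hbn (h ▸ one_mem _)
  have hcomm : ∀ x ∈ (P : Subgroup ↥K), ∀ y ∈ (P : Subgroup ↥K), x * y = y * x :=
    fun x hx y hy => Walter.Known.comm_of_exp_two hsq x hx y hy
  refine le_antisymm (fun g hg => ?_) fun x hx => mem_centralizer_iff.2 fun y hy => hcomm y hy x hx
  rcases hB.klein a b g hoa hob (hcomm a ha b hb) (fun h => hbn (h ▸ mem_zpowers a))
    (mem_centralizer_iff.1 hg a ha).symm (mem_centralizer_iff.1 hg b hb).symm with h | h | h | h <;>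
    rw [h]
  exacts [one_mem _, ha, hb, mul_mem ha hb]

/-- `PSL(2, q)` is a group as required for the Klein-four blocks. -/
theorem kleinPart (e : ↥K ≃* PSL) (h8 : q % 8 = 3 ∨ q % 8 = 5) (h5 : 5 ≤ q) :
    KleinPart K (sgnQ q) 1 := by
  haveI : Fact (Nat.Prime 2) := ⟨Nat.prime_two⟩
  have hB := Walter.Known.odd_basic h8 h5 e
  have hodd : Odd q := Nat.odd_iff.2 (by omega)
  refine
    { odd_c := odd_one
      Q_mod := JankoThompson.sgnQ_mod_eight h8
      Q_big := by rw [JankoThompson.sgnQ_abs]; exact_mod_cast h5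
      klein := fun P => ?_
      conjK := hB.conj
      card := ?_
      cent := fun x hx => ?_
      centP := fun P => ?_
      st := fun hQ => ?_ }
  · obtain ⟨h4, hsq⟩ := hB.sylow P
    refine { card_four := h4, exponent_two := ?_ }
    refine ((Nat.dvd_prime Nat.prime_two).1 (Monoid.exponent_dvd_of_forall_pow_eq_one fun x =>
      Subtype.ext (by rw [coe_pow, pow_two]; exact hsq x x.2))).resolve_left fun h => ?_
    haveI := Monoid.exp_eq_one_iff.1 h
    rw [Nat.card_of_subsingleton (1 : ↥(P : Subgroup ↥K))] at h4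
    omega
  · rw [Nat.card_congr e.toEquiv, Nat.cast_one, one_mul]
    have h := Linear.two_mul_card_PSL_two_of_odd (F := F) hodd
    have hcast : ((2 * Nat.card PSL : ℕ) : ℤ) = ((q * (q - 1) * (q + 1) : ℕ) : ℤ) :=
      congrArg Nat.cast h
    push_cast [Nat.cast_sub (show 1 ≤ q by omega)] at hcast
    have hq1 : (5 : ℤ) ≤ q := by exact_mod_cast h5
    have hsq : sgnQ q ^ 2 = (q : ℤ) ^ 2 := by rw [← sq_abs, JankoThompson.sgnQ_abs]
    rw [hcast, abs_mul, JankoThompson.sgnQ_abs, hsq,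
      abs_of_nonneg (by nlinarith : (0 : ℤ) ≤ (q : ℤ) ^ 2 - 1)]
    ring
  · have hx' : orderOf (e x) = 2 := by rw [MulEquiv.orderOf_eq, hx]
    have hm : (centralizer ({x} : Set ↥K)).map e.toMonoidHom = centralizer ({e x} : Set PSL) := by
      ext y
      obtain ⟨y, rfl⟩ := e.surjective y
      constructor
      · rintro ⟨z, hz, hzy⟩
        rw [← hzy]
        exact (Walter.Known.map_centralizer_iff e).2 hz
      · exact fun h => ⟨y, (Walter.Known.map_centralizer_iff e).1 h, rfl⟩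
    rw [Nat.cast_one, one_mul, ← JankoThompson.Psl.card_centralizer (by omega) hx', ← hm,
      Subgroup.card_map_of_injective e.injective]
  · rw [centralizer_sylow hB P, (hB.sylow P).1]
  · obtain ⟨φ, hr, h1⟩ := JankoThompson.Psl.exists_steinberg (F := F)
    refine ⟨⟨(φ : PSL → ℂ) ∘ e.toMonoidHom, isIrrCharacter_comp _ e.surjective φ.2⟩,
      fun k => hr (e k), ?_⟩
    show (φ : PSL → ℂ) (e 1) = _
    rw [map_one, h1]
    unfold sgnQ at hQ ⊢
    split_ifs at hQ ⊢ with h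
    · omega
    · push_cast
      rw [neg_neg]

/-- The projection of `SL(2, q)` onto `K`. -/
noncomputable def proj (e : ↥K ≃* PSL) : SL →* ↥K :=
  e.symm.toMonoidHom.comp (QuotientGroup.mk' _)

theorem proj_surjective (e : ↥K ≃* PSL) : Function.Surjective (proj e) :=
  e.symm.surjective.comp (QuotientGroup.mk'_surjective _)

/-- Two unipotent elements, whose values add up. -/
theorem half_pair [DecidableEq F] (hodd : Odd q) {C : Subgroup SL} (hC : IsCyclic C)
    (hcard : Nat.card C = q + 1) : ∃ a : F, a ≠ 0 ∧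
      (∀ f : SL → ℂ, IsHalfP f → f (nu 1 rt_one 1) + f (nu 1 rt_one a) = 1) ∧
      (∀ f : SL → ℂ, IsHalfM hC hcard f → f (nu 1 rt_one 1) + f (nu 1 rt_one a) = -1) := by
  have h2 := two_ne_zero' (F := F) hodd
  have hch : ringChar F ≠ 2 := fun h => h2 (by
    have : CharP F 2 := ringChar.of_eq h
    exact CharTwo.two_eq_zero)
  obtain ⟨a, ha⟩ := FiniteField.exists_nonsquare hch
  have ha0 : a ≠ 0 := fun h => ha (h ▸ IsSquare.zero)
  have heps : ∀ ε : MulChar F ℂ, ε ^ 2 = 1 → ε ≠ 1 → ε a = -1 := fun ε h h' =>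
    (eps_apply h h' hodd ha0).2 ha
  refine ⟨a, ha0, fun f hf => ?_, fun f hf => ?_⟩
  · obtain ⟨ε, d, hε, hε1, -, -, -, hv⟩ := hf.values hC hcard hodd
    have e1 := hv 1 one_ne_zero
    have e2 := hv a ha0
    rw [map_one] at e1
    rw [heps ε hε hε1] at e2
    linear_combination e1 / 2 + e2 / 2
  · obtain ⟨ε, θ, d, hε, hε1, -, -, -, -, -, hv⟩ := hf.values hodd
    have e1 := hv 1 one_ne_zero
    have e2 := hv a ha0
    rw [map_one] at e1
    rw [heps ε hε hε1] at e2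
    linear_combination e1 / 2 + e2 / 2

/-- The columns used below, in signed form. -/
structure Cols {M : Ideal Cfsg.AlgInt} {Q : ℤ} (D : Quad M ↥K Q) (u₁ u₂ k : ↥K) : Prop where
  odd₁ : Odd (orderOf u₁)
  odd₂ : Odd (orderOf u₂)
  odd : Odd (orderOf k)
  k1 : (D.e 1 : ℂ) * (D.θ 1 : ↥K → ℂ) k = -1
  k2 : (D.θ 2 : ↥K → ℂ) k = 0
  k3 : (D.θ 3 : ↥K → ℂ) k = 0
  u1 : (D.θ 1 : ↥K → ℂ) u₁ + (D.θ 1 : ↥K → ℂ) u₂ = 0
  u2 : (D.e 2 : ℂ) * ((D.θ 2 : ↥K → ℂ) u₁ + (D.θ 2 : ↥K → ℂ) u₂) = -1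
  u3 : (D.e 3 : ℂ) * ((D.θ 3 : ↥K → ℂ) u₁ + (D.θ 3 : ↥K → ℂ) u₂) = -1

theorem quadDeg_half (Q : ℤ) {i : Fin 4} (hi : i = 2 ∨ i = 3) : quadDeg Q i = (Q - 1) / 2 := by
  rcases hi with rfl | rfl <;> rfl

theorem exists_cols [DecidableEq F] (e : ↥K ≃* PSL) (h8 : q % 8 = 3 ∨ q % 8 = 5) (h5 : 5 ≤ q)
    {M : Ideal Cfsg.AlgInt} (D : Quad M ↥K (sgnQ q)) :
    ∃ u₁ u₂ k : ↥K, Cols D u₁ u₂ k ∧ (q = 5 → k ^ 3 = 1) := by
  have hodd : Odd q := Nat.odd_iff.2 (by omega)
  obtain ⟨C, hC, hcard⟩ := exists_C (F := F)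
  obtain ⟨a, ha0, hP, hM'⟩ := half_pair hodd hC hcard
  set π := proj e with hπdef
  have hπ := proj_surjective e
  let χ : Fin 4 → (SL → ℂ) := fun i => (D.θ i : ↥K → ℂ) ∘ π
  have hχ : ∀ i, Cfsg.IsIrrCharacter SL (χ i) := fun i => isIrrCharacter_comp π hπ (D.θ i).2
  have hχ1 : ∀ i, χ i 1 = (D.θ i : ↥K → ℂ) 1 := fun i => congrArg _ (map_one π)
  have hnat : ∀ i, ∃ d : ℕ, 0 < d ∧ χ i 1 = (d : ℂ) ∧ D.e i * (d : ℤ) = quadDeg (sgnQ q) i := by
    intro i
    obtain ⟨d, hd0, hd⟩ := exists_degree_pos (D.θ i)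
    refine ⟨d, hd0, by rw [hχ1, hd], ?_⟩
    have := D.deg i
    rw [hd] at this
    exact_mod_cast this
  -- odd orders of unipotent elements
  obtain ⟨p, hp⟩ := CharP.exists F
  haveI := hp
  obtain ⟨m, hpp, hm⟩ := FiniteField.card F p
  have hpodd : Odd p := by
    rcases hpp.eq_two_or_odd' with rfl | h
    · exfalso
      have h2 : 2 ∣ q := hm ▸ dvd_pow_self 2 m.pos.ne'
      obtain ⟨j, hj⟩ := hodd
      omega
    · exact h
  have hunip : ∀ x : F, Odd (orderOf (π (nu 1 rt_one x))) := fun x => by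
    refine hpodd.of_dvd_nat ((orderOf_map_dvd π _).trans (orderOf_dvd_of_pow_eq_one ?_))
    rw [McKay.nu_one_pow, CharP.cast_eq_zero, zero_mul, nu_one_zero]
  have hmap : ∀ {g : SL} {n : ℕ}, Odd n → g ^ n = 1 → Odd (orderOf (π g)) := fun hn hg =>
    hn.of_dvd_nat ((orderOf_map_dvd π _).trans (orderOf_dvd_of_pow_eq_one hg))
  obtain ⟨d1, -, hχd1, he1⟩ := hnat 1
  obtain ⟨d2, -, hχd2, he2⟩ := hnat 2
  obtain ⟨d3, -, hχd3, he3⟩ := hnat 3
  have he1' : D.e 1 * (d1 : ℤ) = -sgnQ q := he1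
  have he2' : D.e 2 * (d2 : ℤ) = (sgnQ q - 1) / 2 := he2
  have he3' : D.e 3 * (d3 : ℤ) = (sgnQ q - 1) / 2 := he3
  by_cases h3 : q % 4 = 3
  · -- the split torus
    have hQ : sgnQ q = q := if_pos h3
    obtain ⟨g0, hg0⟩ := IsCyclic.exists_generator (α := Fˣ)
    have hordg : orderOf g0 = q - 1 := by
      rw [orderOf_eq_card_of_forall_mem_zpowers hg0, Nat.card_units, Nat.card_eq_fintype_card]
    set b := g0 ^ 2 with hb
    have hbpow : b ^ ((q - 1) / 2) = 1 := by
      rw [hb, ← pow_mul, show 2 * ((q - 1) / 2) = q - 1 by omega, ← hordg, pow_orderOf_eq_one]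
    have hbn : Odd ((q - 1) / 2) := Nat.odd_iff.2 (by omega)
    have hb2 : (b : F) * b ≠ 1 := by
      intro h
      have h' : g0 ^ 4 = 1 := by
        rw [show (4 : ℕ) = 2 * 2 from rfl, pow_mul, ← hb, pow_two]; exact Units.ext h
      have := Nat.le_of_dvd (by norm_num) (orderOf_dvd_of_pow_eq_one h')
      omega
    have s1 : D.e 1 = -1 ∧ d1 = q := by rcases D.sign 1 with t | t <;> rw [t] at he1' <;> omega
    have s2 : D.e 2 = 1 ∧ d2 = (q - 1) / 2 := by
      rcases D.sign 2 with t | t <;> rw [t] at he2' <;> omega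
    have s3 : D.e 3 = 1 ∧ d3 = (q - 1) / 2 := by
      rcases D.sign 3 with t | t <;> rw [t] at he3' <;> omega
    have v1 := eq_st_of_deg hC hcard (hχ 1) (by rw [hχd1, s1.2])
    have v2 := isHalfM_of_deg hC hcard (hχ 2) hodd (by omega) (by rw [hχd2, s2.2])
    have v3 := isHalfM_of_deg hC hcard (hχ 3) hodd (by omega) (by rw [hχd3, s3.2])
    refine ⟨π (nu 1 rt_one 1), π (nu 1 rt_one a), π (dg b),
      ⟨hunip _, hunip _, hmap hbn (by rw [← map_pow, hbpow, map_one]), ?_, ?_, ?_, ?_, ?_, ?_⟩,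
      fun h => by omega⟩
    · show (D.e 1 : ℂ) * χ 1 (dg b) = -1
      rw [v1, s1.1, st_dg hb2]; norm_num
    · obtain ⟨_, _, _, -, -, -, -, -, h, -, -⟩ := v2.values hodd
      exact h b hb2
    · obtain ⟨_, _, _, -, -, -, -, -, h, -, -⟩ := v3.values hodd
      exact h b hb2
    · show χ 1 (nu 1 rt_one 1) + χ 1 (nu 1 rt_one a) = 0
      rw [v1, st_nu ⟨1, rt_one⟩ one_ne_zero, st_nu ⟨1, rt_one⟩ ha0, add_zero]
    · show (D.e 2 : ℂ) * (χ 2 (nu 1 rt_one 1) + χ 2 (nu 1 rt_one a)) = -1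
      rw [s2.1, hM' _ v2]; norm_num
    · show (D.e 3 : ℂ) * (χ 3 (nu 1 rt_one 1) + χ 3 (nu 1 rt_one a)) = -1
      rw [s3.1, hM' _ v3]; norm_num
  · -- the non-split torus
    have hQ : sgnQ q = -(q : ℤ) := if_neg h3
    haveI := hC
    obtain ⟨c0, hc0⟩ := IsCyclic.exists_generator (α := C)
    have hordc : orderOf c0 = q + 1 := by rw [orderOf_eq_card_of_forall_mem_zpowers hc0, hcard]
    set c := c0 ^ 2 with hcdef
    have hcpow : c ^ ((q + 1) / 2) = 1 := by
      rw [hcdef, ← pow_mul, show 2 * ((q + 1) / 2) = q + 1 by omega, ← hordc, pow_orderOf_eq_one]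
    have hcn : Odd ((q + 1) / 2) := Nat.odd_iff.2 (by omega)
    have hcg : ((c : C) : SL) ^ ((q + 1) / 2) = 1 := by
      rw [← SubmonoidClass.coe_pow, hcpow, OneMemClass.coe_one]
    have hns : NonScalar (c : SL) := by
      by_contra h
      obtain ⟨z, hz, hzc⟩ := scalar_eq_nu h
      have hsq : (c : SL) * (c : SL) = 1 := by
        have hzz : z * z = 1 := hz
        rw [hzc, nu_mul z z hz hz 0 0 (by rw [hzz]; exact rt_one),
          nu_congr hzz _ rt_one]
        simp [nu_one_zero]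
      have h' : c0 ^ 4 = 1 := by
        rw [show (4 : ℕ) = 2 * 2 from rfl, pow_mul, ← hcdef, pow_two]; exact Subtype.ext hsq
      have := Nat.le_of_dvd (by norm_num) (orderOf_dvd_of_pow_eq_one h')
      omega
    obtain ⟨-, hnsp, -⟩ := C_regular hC hcard c.2 hns
    have s1 : D.e 1 = 1 ∧ d1 = q := by rcases D.sign 1 with t | t <;> rw [t] at he1' <;> omega
    have s2 : D.e 2 = -1 ∧ d2 = (q + 1) / 2 := by
      rcases D.sign 2 with t | t <;> rw [t] at he2' <;> omega
    have s3 : D.e 3 = -1 ∧ d3 = (q + 1) / 2 := by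
      rcases D.sign 3 with t | t <;> rw [t] at he3' <;> omega
    have v1 := eq_st_of_deg hC hcard (hχ 1) (by rw [hχd1, s1.2])
    have v2 := isHalfP_of_deg hC hcard (hχ 2) hodd (by omega) (by rw [hχd2, s2.2])
    have v3 := isHalfP_of_deg hC hcard (hχ 3) hodd (by omega) (by rw [hχd3, s3.2])
    refine ⟨π (nu 1 rt_one 1), π (nu 1 rt_one a), π (c : SL),
      ⟨hunip _, hunip _, hmap hcn hcg, ?_, ?_, ?_, ?_, ?_, ?_⟩,
      fun h => by
        rw [← map_pow, show 3 = (q + 1) / 2 by omega, hcg, map_one]⟩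
    · show (D.e 1 : ℂ) * χ 1 (c : SL) = -1
      rw [v1, s1.1, st_nonsplit hnsp]; norm_num
    · obtain ⟨_, _, -, -, -, -, h, -⟩ := v2.values hC hcard hodd
      exact h c hns
    · obtain ⟨_, _, -, -, -, -, h, -⟩ := v3.values hC hcard hodd
      exact h c hns
    · show χ 1 (nu 1 rt_one 1) + χ 1 (nu 1 rt_one a) = 0
      rw [v1, st_nu ⟨1, rt_one⟩ one_ne_zero, st_nu ⟨1, rt_one⟩ ha0, add_zero]
    · show (D.e 2 : ℂ) * (χ 2 (nu 1 rt_one 1) + χ 2 (nu 1 rt_one a)) = -1
      rw [s2.1, hP _ v2]; norm_num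
    · show (D.e 3 : ℂ) * (χ 3 (nu 1 rt_one 1) + χ 3 (nu 1 rt_one a)) = -1
      rw [s3.1, hP _ v3]; norm_num

variable {M : Ideal Cfsg.AlgInt} {Q : ℤ} {D : Quad M ↥K Q} {u₁ u₂ k : ↥K}

/-- The four columns add up to `4` on the trivial character and to `0` on the others. -/
theorem Cols.comb (hc : Cols D u₁ u₂ k) {v : ↥K} (hv : 2 ∣ orderOf v) {θ : Cfsg.IrrCharacter ↥K}
    (hθ : θ ∈ Cfsg.principalBlock M ↥K) (hne : θ ≠ oneChar ↥K) :
    (θ : ↥K → ℂ) u₁ + (θ : ↥K → ℂ) u₂ + (θ : ↥K → ℂ) k + (θ : ↥K → ℂ) v = 0 := by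
  rw [D.block] at hθ
  obtain ⟨i, rfl⟩ := hθ
  haveI := Fintype.ofFinite ↥K
  have he : (D.e i : ℂ) * D.e i = 1 := D.sq i
  have hv' := D.even v hv i
  suffices h : (D.e i : ℂ) * ((D.θ i : ↥K → ℂ) u₁ + (D.θ i : ↥K → ℂ) u₂ + (D.θ i : ↥K → ℂ) k +
      (D.θ i : ↥K → ℂ) v) = 0 by
    refine (mul_eq_zero.1 h).resolve_left fun h0 => ?_
    rw [h0, mul_zero] at he
    exact zero_ne_one he
  fin_cases i
  · exact absurd D.θ_zero hne
  · have a := hc.k1
    have b := hc.u1
    simp only [Fin.mk_one, Fin.isValue] at hv' he ⊢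
    linear_combination a + (D.e 1 : ℂ) * b + hv'
  · have a := hc.k2
    have b := hc.u2
    simp only [Fin.reduceFinMk, Fin.isValue] at hv' he ⊢
    linear_combination (D.e 2 : ℂ) * a + b + hv'
  · have a := hc.k3
    have b := hc.u3
    simp only [Fin.reduceFinMk, Fin.isValue] at hv' he ⊢
    linear_combination (D.e 3 : ℂ) * a + b + hv'

/-- The pairing with the torus element. -/
theorem Cols.pairing (hc : Cols D u₁ u₂ k) (y : ↥K) :
    ∑ᶠ θ ∈ Cfsg.principalBlock M ↥K, (θ : ↥K → ℂ) y * (θ : ↥K → ℂ) k =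
      1 - (D.e 1 : ℂ) * (D.θ 1 : ↥K → ℂ) y := by
  rw [D.block, finsum_mem_range D.inj, finsum_eq_sum_of_fintype, Fin.sum_univ_four, hc.k2, hc.k3,
    D.θ_zero, oneChar_apply, oneChar_apply]
  haveI := Fintype.ofFinite ↥K
  have h := D.sq 1
  linear_combination ((D.θ 1 : ↥K → ℂ) y * (D.e 1 : ℂ)) * hc.k1 -
    ((D.θ 1 : ↥K → ℂ) y * (D.θ 1 : ↥K → ℂ) k) * h

/-- A nontrivial character has degree at least `(q - 1) / 2`. -/
theorem le_degree (e : ↥K ≃* PSL) (h5 : 5 ≤ q) {θ : Cfsg.IrrCharacter ↥K}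
    (hne : θ ≠ oneChar ↥K) : q ≤ 2 * Cfsg.charDegree (θ : ↥K → ℂ) + 1 := by
  classical
  obtain ⟨C, hC, hcard⟩ := exists_C (F := F)
  set d := Cfsg.charDegree (θ : ↥K → ℂ)
  have h1 : ((θ : ↥K → ℂ) ∘ proj e) 1 = (d : ℂ) := by
    rw [Function.comp_apply, map_one, Blocks.char_one_eq_degree]
  rcases classify hC hcard (isIrrCharacter_comp (proj e) (proj_surjective e) θ.2) with hb | ⟨-, hb | hb⟩
  · rcases hb.degree with ⟨-, h⟩ | ⟨h, -⟩ | ⟨h, -⟩ | ⟨h, -⟩
    · refine absurd (Subtype.ext (funext fun x => ?_)) hne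
      obtain ⟨g, rfl⟩ := proj_surjective e x
      exact congrFun h g
    · rw [h1] at h; norm_cast at h; omega
    · rw [h1] at h; norm_cast at h; omega
    · rw [h1] at h
      have : ((d + 1 : ℕ) : ℂ) = (q : ℂ) := by push_cast; linear_combination h
      norm_cast at this; omega
  · have h := hb.degree
    rw [h1] at h; norm_cast at h; omega
  · have h := hb.degree
    rw [h1] at h
    have : ((2 * d + 1 : ℕ) : ℂ) = (q : ℂ) := by push_cast; linear_combination h
    norm_cast at this; omega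

/-- In `PSL(2, 5)` the signed Steinberg character is `0` or `-1` away from the identity on regular
elements. -/
theorem steinberg_five (e : ↥K ≃* PSL) (h5 : q = 5) {M : Ideal Cfsg.AlgInt}
    (D : Quad M ↥K (sgnQ q)) {y : ↥K} (hy : ¬ 2 ∣ orderOf y) (hy1 : y ≠ 1) :
    (D.e 1 : ℂ) * (D.θ 1 : ↥K → ℂ) y = 0 ∨ (D.e 1 : ℂ) * (D.θ 1 : ↥K → ℂ) y = -1 := by
  classical
  obtain ⟨C, hC, hcard⟩ := exists_C (F := F)
  have hodd : Odd q := by rw [h5]; decide
  have hQ : sgnQ q = -(q : ℤ) := if_neg (by omega)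
  obtain ⟨d, hd0, hd⟩ := exists_degree_pos (D.θ 1)
  have he : D.e 1 * (d : ℤ) = -sgnQ q := by
    have := D.deg 1
    rw [hd] at this
    exact_mod_cast this
  have hs : D.e 1 = 1 ∧ d = q := by rcases D.sign 1 with t | t <;> rw [t] at he <;> omega
  have hv := eq_st_of_deg hC hcard (isIrrCharacter_comp (proj e) (proj_surjective e) (D.θ 1).2)
    (by rw [Function.comp_apply, map_one, hd, hs.2])
  obtain ⟨g, rfl⟩ := proj_surjective e y
  have hval : (D.θ 1 : ↥K → ℂ) (proj e g) = st g := congrFun hv g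
  rw [hs.1, Int.cast_one, one_mul, hval]
  have hclass := isClassFunction_of_isCharacter (IsCharacter_of_isIrrCharacter (isIrr_st (F := F)))
  have hzero : ∀ z : RtT F, proj e (sc z) = 1 := fun z => by
    have : (QuotientGroup.mk' (center SL) (sc z) : PSL) = 1 := (QuotientGroup.eq_one_iff _).2
      (mem_center_iff.2 fun g => nu_zero_central z.1 z.2 g)
    show e.symm (QuotientGroup.mk' (center SL) (sc z)) = 1
    rw [this, map_one]
  rcases class_cases hC hcard g with ⟨z, rfl⟩ | ⟨z, x, P, hx, rfl⟩ | ⟨a, ha, P, rfl⟩ |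
    ⟨c, hc, P, rfl⟩
  · exact absurd (hzero z) hy1
  · left
    rw [show st (P * nu z.1 z.2 x * P⁻¹) = st (nu z.1 z.2 x) from hclass _ _, st_nu z hx]
  · exfalso
    have h4 : a ^ 4 = 1 := by
      rw [← orderOf_dvd_iff_pow_eq_one]
      have := orderOf_dvd_natCard a
      rwa [Nat.card_units, Nat.card_eq_fintype_card, h5] at this
    have hsq : (proj e (P * dg a * P⁻¹)) ^ 2 = 1 := by
      have h1 : ((a : F) * a) * ((a : F) * a) = 1 := by
        have h := congrArg Units.val h4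
        rw [Units.val_pow_eq_pow_val, Units.val_one] at h
        linear_combination h
      have h2 : dg a ^ 2 = sc ⟨(a : F) * a, h1⟩ := by
        rw [pow_two, ← map_mul]
        refine slExt rfl rfl rfl ?_
        show (((a * a)⁻¹ : Fˣ) : F) = (a : F) * a
        rw [← Units.val_mul]
        refine congrArg Units.val (inv_eq_of_mul_eq_one_right (Units.ext ?_))
        simpa using h1
      rw [← map_pow, conj_pow, map_mul, map_mul, h2, hzero, mul_one, ← map_mul, mul_inv_cancel,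
        map_one]
    have hdvd := orderOf_dvd_of_pow_eq_one hsq
    rcases (Nat.dvd_prime Nat.prime_two).1 hdvd with h | h
    · exact hy1 (orderOf_eq_one_iff.1 h)
    · exact hy (by rw [h])
  · right
    obtain ⟨hcC, hns⟩ := mem_cNS.mp hc
    obtain ⟨-, hnsp, -⟩ := C_regular hC hcard hcC hns
    rw [show st (P * c * P⁻¹) = st c from hclass _ _, st_nonsplit hnsp]

end Cfsg.Agent.Lib.ConstDiff79
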