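import Cfsg.Agent.Lib.ConstDiff79.Tools
import Cfsg.Agent.Lib.ConstDiff79.PslBlock
import Cfsg.Agent.S0942
import Cfsg.Agent.S0947

/-!
# Sylow 2-subgroups of order four (helper79)
-/

set_option autoImplicit false
set_option linter.style.haveILetI false
set_option linter.unusedSectionVars false

namespace Cfsg.Agent.Lib.ConstDiff79

open Subgroup
open scoped ComplexConjugate
open Cfsg.Agent.Lib.Blocks
open Cfsg.Agent.Lib.Characters.Basic

universe u

variable {M : Ideal Cfsg.AlgInt} [M.IsMaximal] {G : Type u} [Group G] [Finite G]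

theorem le_four {u s : G} {K : ℕ} (h : Setting M u s K)
    (h4 : ∀ P : Sylow 2 G, Nat.card (P : Subgroup G) = 4) : K ≤ 4 := by
  classical
  haveI : Fact (Nat.Prime 2) := ⟨Nat.prime_two⟩
  obtain ⟨P, hsP⟩ := (IsPGroup.of_card (G := zpowers s) (n := 1)
    (by rw [Nat.card_zpowers, h.s_inv, pow_one])).exists_le_sylow
  have hs : s ∈ (P : Subgroup G) := hsP (mem_zpowers s)
  set C := centralizer ({s} : Set G) with hC
  have hPC : (P : Subgroup G) ≤ C := fun x hx => mem_centralizer_singleton_iff.2 (h.comm P hx hs)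
  set PC : Sylow 2 C := P.subtype hPC with hPCdef
  have hcardPC : Nat.card (PC : Subgroup C) = 4 := by
    rw [← h4 P]; exact Nat.card_congr (Subgroup.subgroupOfEquivOfLe hPC).toEquiv
  have hNC : normalizer ((PC : Subgroup C) : Set C) ≤ centralizer ((PC : Subgroup C) : Set C) := by
    intro n hn
    have hmem : ∀ x : C, x ∈ (PC : Subgroup C) ↔ (x : G) ∈ (P : Subgroup G) := fun x => Iff.rfl
    have hns : (n : G) * s = s * n := mem_centralizer_singleton_iff.1 n.2
    have hnN : (n : G) ∈ normalizer ((P : Subgroup G) : Set G) := by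
      refine mem_normalizer_iff.2 fun x => ⟨fun hx => ?_, fun hx => ?_⟩
      · exact (mem_normalizer_iff.1 hn ⟨x, hPC hx⟩).1 hx
      · have h2 : n⁻¹ * ⟨_, hPC hx⟩ * n⁻¹⁻¹ ∈ (PC : Subgroup C) :=
          (mem_normalizer_iff.1 (inv_mem hn) ⟨_, hPC hx⟩).1 hx
        rw [hmem] at h2
        simpa [mul_assoc] using h2
    have key : (n : G) ∈ centralizer ((P : Subgroup G) : Set G) := by
      refine mem_centralizer_of_sq P (fun x hx y hy => h.comm P hx hy) hnN
        (mem_centralizer_iff.2 fun a ha => ?_)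
      set z := zpowers s with hz
      have hzfix : ∀ c ∈ z, (n : G) * c * (n : G)⁻¹ = c := fun c hc => by
        obtain ⟨i, rfl⟩ := mem_zpowers_iff.1 hc
        rw [((show Commute (n : G) s from hns).zpow_right i).eq, mul_inv_cancel_right]
      suffices hfix : (n : G) * ((n : G) * a * (n : G)⁻¹) * (n : G)⁻¹ = a by
        calc a * ((n : G) * n) = (n : G) * ((n : G) * a * (n : G)⁻¹) * (n : G)⁻¹ * ((n : G) * n) := by
              rw [hfix]
          _ = (n : G) * n * a := by group
      by_cases haz : a ∈ z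
      · rw [hzfix a haz, hzfix a haz]
      have hb := (mem_normalizer_iff.1 hnN a).1 ha
      set b := (n : G) * a * (n : G)⁻¹ with hbdef
      have hc' := (mem_normalizer_iff.1 hnN b).1 hb
      have hout : ∀ w ∈ (P : Subgroup G), w ∉ z → w = a ∨ w = s * a := by
        intro w hw hwz
        by_contra hne
        push Not at hne
        have h5 : ({1, s, a, s * a, w} : Finset G).card = 5 := by
          have hs1 : s ≠ 1 := fun e => by
            have := h.s_inv; rw [e, orderOf_one] at this; omega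
          have ha1 : a ≠ 1 := fun e => haz (e ▸ one_mem z)
          have has : s ≠ a := fun e => haz (e ▸ mem_zpowers s)
          have hsa1 : s * a ≠ 1 := fun e => haz (by
            rw [eq_inv_of_mul_eq_one_right e]; exact inv_mem (mem_zpowers s))
          have hsas : s * a ≠ s := fun e => ha1 (mul_eq_left.1 e)
          have hsaa : s * a ≠ a := fun e => hs1 (mul_eq_right.1 e)
          have hw1 : w ≠ 1 := fun e => hwz (e ▸ one_mem z)
          have hws : w ≠ s := fun e => hwz (e ▸ mem_zpowers s)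
          rw [Finset.card_insert_of_notMem, Finset.card_insert_of_notMem,
            Finset.card_insert_of_notMem, Finset.card_pair hne.2.symm] <;>
            simp [hs1.symm, ha1.symm, has, hsa1.symm, hsas.symm, hsaa.symm, hw1.symm, hws.symm,
              hne.1.symm]
        haveI := Fintype.ofFinite G
        have hsub : ({1, s, a, s * a, w} : Finset G) ⊆
            (P : Subgroup G).carrier.toFinite.toFinset := fun x hx => by
          rw [Set.Finite.mem_toFinset]
          simp only [Finset.mem_insert, Finset.mem_singleton] at hx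
          rcases hx with rfl | rfl | rfl | rfl | rfl
          exacts [(P : Subgroup G).one_mem, hs, ha, (P : Subgroup G).mul_mem hs ha, hw]
        have := Finset.card_le_card hsub
        rw [h5, ← Set.ncard_eq_toFinset_card _] at this
        have h4' : (P : Subgroup G).carrier.ncard = 4 := by
          rw [← h4 P, ← Nat.card_coe_set_eq]
          rfl
        omega
      have hbz : b ∉ z := fun hb' => haz (by
        have := hzfix b hb'
        rw [hbdef] at this hb'
        have h3 : (n : G) * a * (n : G)⁻¹ = a := mul_left_cancel (mul_right_cancel this)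
        rwa [h3] at hb')
      rcases hout b hb hbz with e | e
      · rw [e, ← hbdef, e]
      · have hsn : (n : G) * s * (n : G)⁻¹ = s := hzfix s (mem_zpowers s)
        calc (n : G) * b * (n : G)⁻¹ = ((n : G) * s * (n : G)⁻¹) * ((n : G) * a * (n : G)⁻¹) := by
              rw [e]; group
          _ = s * (s * a) := by rw [hsn, ← hbdef, e]
          _ = a := by rw [← mul_assoc, h.sq_eq_one P hs, one_mul]
    exact mem_centralizer_iff.2 fun x hx => Subtype.ext (mem_centralizer_iff.1 key x hx)
  have hK' := MonoidHom.ker_transferSylow_isComplement' PC hNC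
  set R := (MonoidHom.transferSylow PC hNC).ker with hR
  have hRle : R ≤ Cfsg.pPrimeCore 2 C := Cores.le_pPrimeCore_of_not_dvd (by
    rw [← hK'.index_eq_card]; exact PC.not_dvd_index)
  have hidx : ∃ j, (Cfsg.pPrimeCore 2 C).index = 2 ^ j := by
    have h1 := index_dvd_of_le hRle
    rw [hK'.symm.index_eq_card, hcardPC] at h1
    obtain ⟨j, -, hj⟩ := (Nat.dvd_prime_pow Nat.prime_two).1 (show _ ∣ 2 ^ 2 from h1)
    exact ⟨j, hj⟩
  obtain ⟨y, hy, hcy, hs2, hyodd⟩ := id h.part
  have hyC : y ∈ C := mem_centralizer_singleton_iff.2 hcy.eq.symm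
  have hyR : (⟨y, hyC⟩ : C) ∈ Cfsg.pPrimeCore 2 C := by
    obtain ⟨j, hj⟩ := hidx
    haveI : (Cfsg.pPrimeCore 2 C).Normal := Cfsg.pPrimeCore_normal 2 C
    have h1 : orderOf (QuotientGroup.mk' (Cfsg.pPrimeCore 2 C) ⟨y, hyC⟩) ∣ 2 ^ j := by
      rw [← hj, Subgroup.index_eq_card]; exact orderOf_dvd_natCard _
    have h2 : orderOf (QuotientGroup.mk' (Cfsg.pPrimeCore 2 C) ⟨y, hyC⟩) ∣ orderOf y := by
      rw [← Subgroup.orderOf_mk y hyC]; exact orderOf_map_dvd _ _
    exact (QuotientGroup.eq_one_iff _).1 (orderOf_eq_one_iff.1 (Nat.eq_one_of_dvd_coprimes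
      ((Nat.prime_two.coprime_iff_not_dvd.2 hyodd).pow_left j) h1 h2))
  have hval : ∀ χ ∈ Cfsg.principalBlock M G, (χ : G → ℂ) u = (χ : G → ℂ) s := fun χ hχ => by
    rw [← hy]
    exact Cfsg.Agent.S0942.result 2 M h.prime s hs2 y ⟨⟨y, hyC⟩, hyR, rfl⟩ χ hχ
  have hs1 : s ≠ 1 := fun e => by have := h.s_inv; rw [e, orderOf_one] at this; omega
  have h47 := (Cfsg.Agent.S0947.result 2 M h.prime s hs2 hs1 1 (by simp)).2 hidx
  have hfac : (Nat.card C).factorization 2 = 2 := by
    have h1 := PC.card_eq_multiplicity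
    rw [hcardPC] at h1
    exact Nat.pow_right_injective le_rfl (show 2 ^ _ = 2 ^ 2 from h1.symm)
  simp only [OneMemClass.coe_one, mul_one] at h47
  rw [hfac] at h47
  have hsum := h.const.sum_mul h.prime (h := s) (by rw [h.s_inv])
  have h48 : ∑ᶠ χ ∈ Cfsg.principalBlock M G, (χ : G → ℂ) u * (χ : G → ℂ) s⁻¹ = 4 := by
    have hterm : ∀ χ ∈ Cfsg.principalBlock M G, (χ : G → ℂ) u * (χ : G → ℂ) s⁻¹ =
        ((‖(χ : G → ℂ) s‖ ^ 2 : ℝ) : ℂ) := fun χ hχ => by
      rw [hval χ hχ, apply_inv (isCharacter_irr χ), Complex.mul_conj, ← Complex.sq_norm]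
    rw [finsum_mem_congr rfl hterm]
    rw [Contrib.finsum_mem_bset, ← Complex.ofReal_sum, ← Contrib.finsum_mem_bset, h47]
    norm_num
  rw [h48] at hsum
  refine Nat.le_of_dvd (by norm_num) (dvd_of_mul_integral h.pos.ne'
    (z := -∑ χ ∈ nontriv M G, (χ : G → ℂ) s⁻¹) (IsIntegral.sum _ fun χ _ =>
      isIntegral_apply (isCharacter_irr χ) _).neg ?_)
  push_cast
  linear_combination -hsum

/-- A nontrivial member of the principal block is nontrivial on the socle. -/
theorem ne_on_socle {u s : G} {K : ℕ} (h : Setting M u s K) (L : Subgroup G) [L.Normal]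
    (P : Sylow 2 G) (hPL : (P : Subgroup G) ≤ L)
    (hsup : L ⊔ centralizer ((P : Subgroup G) : Set G) = ⊤) {χ : Cfsg.IrrCharacter G}
    (hχ : χ ∈ nontriv M G) : ∃ x : L, (χ : G → ℂ) x ≠ (χ : G → ℂ) 1 := by
  haveI : Fact (Nat.Prime 2) := ⟨Nat.prime_two⟩
  by_contra hall
  push Not at hall
  exact (mem_nontriv.1 hχ).1 (eq_one_of_trivialOn h.prime P L
    (fun hd => P.not_dvd_index (hd.trans (index_dvd_of_le hPL))) hsup (mem_nontriv.1 hχ).2
    fun n hn => hall ⟨n, hn⟩)

/-- With Sylow subgroups of order four the socle is `PSL(2, 5)`. -/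
theorem four_case {u s : G} {K : ℕ} (h : Setting M u s K) (L : Subgroup G) [L.Normal]
    (hP : ∀ P : Sylow 2 G, (P : Subgroup G) ≤ L ∧ L ⊔ centralizer ((P : Subgroup G) : Set G) = ⊤)
    (h4 : ∀ P : Sylow 2 G, Nat.card (P : Subgroup G) = 4) {F : Type} [Field F] [Fintype F]
    (h8 : Fintype.card F % 8 = 3 ∨ Fintype.card F % 8 = 5) (h5 : 5 ≤ Fintype.card F)
    (e : L ≃* Matrix.ProjectiveSpecialLinearGroup (Fin 2) F) : Fintype.card F = 5 := by
  classical
  haveI := Fintype.ofFinite G
  haveI := Fintype.ofFinite L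
  haveI := Fintype.ofFinite (Cfsg.IrrCharacter L)
  obtain ⟨χ, hχ, hd⟩ := h.small
  obtain ⟨P⟩ : Nonempty (Sylow 2 G) := inferInstance
  obtain ⟨x, hx⟩ := ne_on_socle h L P (hP P).1 (hP P).2 hχ
  obtain ⟨m, -, hdeg, η, hη, hne⟩ := exists_constituent L χ hx
  have h1 := le_degree e h5 (θ := η) fun he => hne (by rw [he, oneChar_apply, oneChar_apply])
  have h2 : Cfsg.charDegree (η : L → ℂ) ≤ Cfsg.charDegree (χ : G → ℂ) := by
    rw [hdeg]
    exact le_trans (Nat.le_mul_of_pos_left _ hη)
      (Finset.single_le_sum (f := fun η => m η * Cfsg.charDegree (η : L → ℂ))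
        (fun _ _ => Nat.zero_le _) (Finset.mem_univ η))
  have := le_four h h4
  omega

end Cfsg.Agent.Lib.ConstDiff79
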