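import Cfsg.Agent.Lib.ConstDiff79.JRSums

/-!
# Janko–Ree socle over the field of five elements: impossible (helper79)
-/

set_option autoImplicit false
set_option linter.style.haveILetI false
set_option linter.unusedSectionVars false

namespace Cfsg.Agent.Lib.ConstDiff79

open Subgroup
open scoped ComplexConjugate
open Cfsg.Agent.Lib.Blocks Cfsg.Agent.Lib.Blocks.Contrib
open Cfsg.Agent.Lib.Characters.Basic
open Cfsg.Agent.Lib.JankoThompson (sgnQ)

universe u

variable {M : Ideal Cfsg.AlgInt} [M.IsMaximal] {G : Type u} [Group G] [Finite G]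
  {u s : G} {K : ℕ} {L N : Subgroup G} {P : Sylow 2 G} {F : Type} [Field F] [Fintype F]

/-- For five elements the centraliser of the involution is `⟨s⟩ × N` and the socle is everything. -/
theorem jr_split (h : Setting M u s K) [L.Normal] (hPL : (P : Subgroup G) ≤ L)
    (hsup : L ⊔ centralizer ((P : Subgroup G) : Set G) = ⊤)
    (hCL : centralizer (L : Set G) = ⊥) (hfacts : Walter.KnownFacts L)
    (hl : JRLocal P s L N) (hF : Fintype.card F = 5)
    (e : N ≃* Matrix.ProjectiveSpecialLinearGroup (Fin 2) F) :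
    L = ⊤ ∧ ∀ x : G, x * s = s * x → x ∈ N ∨ s * x ∈ N := by
  classical
  haveI : Fact (Nat.Prime 2) := ⟨Nat.prime_two⟩
  set C := centralizer ({s} : Set G) with hC
  have hNC : N ≤ C := fun n hn => mem_centralizer_singleton_iff.2 (hl.N_comm n hn)
  set N' := N.subgroupOf C with hN'
  haveI : N'.Normal := ⟨fun n hn g => hl.conj_mem g (mem_centralizer_singleton_iff.1 g.2) n hn⟩
  let e' : N' ≃* Matrix.ProjectiveSpecialLinearGroup (Fin 2) F :=
    (Subgroup.subgroupOfEquivOfLe hNC).trans e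
  obtain ⟨F₄, _, _, hF₄, ⟨e₄⟩⟩ := Walter.Known.psl_five_to_four hF e'
  haveI : CharP F₄ 2 := charP_of_card_eq_prime_pow (f := 2) (by rw [hF₄]; norm_num)
  have hexp : ∀ a x : N', orderOf a = 2 → x * a = a * x → x * x = 1 := fun a x ha hx =>
    e₄.injective (by
      rw [map_mul, map_one]
      exact Walter.Known.psl_exponent_two (u := e₄ a) (by rw [MulEquiv.orderOf_eq, ha])
        (by rw [← map_mul, ← map_mul, hx]))
  -- elements of odd order centralising `P` centralise `N`
  have hcentN : ∀ f ∈ centralizer ((P : Subgroup G) : Set G), Odd (orderOf f) →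
      ∀ n ∈ N, f * n = n * f := by
    intro f hf hodd
    have hfC : f ∈ C := mem_centralizer_singleton_iff.2 (mem_centralizer_iff.1 hf s hl.s_mem).symm
    haveI : Nontrivial ↥((P : Subgroup G) ⊓ N) :=
      Finite.one_lt_card_iff_nontrivial.1 (by rw [hl.four]; norm_num)
    obtain ⟨⟨v, hv⟩, hvne⟩ := exists_ne (1 : ↥((P : Subgroup G) ⊓ N))
    have hv1 : v ≠ 1 := fun e1 => hvne (Subtype.ext e1)
    have hov : orderOf v = 2 :=
      orderOf_eq_prime (by rw [pow_two]; exact h.sq_eq_one P hv.1) hv1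
    set a : N' := ⟨⟨v, hNC hv.2⟩, hv.2⟩ with ha
    have ha2 : orderOf a = 2 := by
      rw [← Subgroup.orderOf_coe, ← Subgroup.orderOf_coe]; exact hov
    set Q := N ⊓ centralizer ({v} : Set G) with hQ
    have hQp : IsPGroup 2 (Q.subgroupOf N) := fun x => ⟨1, by
      have hx : ((x : N) : G) * v = v * ((x : N) : G) := mem_centralizer_singleton_iff.1 x.2.2
      have h1 := hexp a ⟨⟨((x : N) : G), hNC x.1.2⟩, x.1.2⟩ ha2 (Subtype.ext (Subtype.ext hx))
      rw [pow_one, pow_two]
      exact Subtype.ext (Subtype.ext (congrArg (fun z : N' => ((z : C) : G)) h1))⟩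
    obtain ⟨S, hS⟩ := hQp.exists_le_sylow
    have hle : Nat.card Q ≤ 4 := by
      rw [← Nat.card_congr (Subgroup.subgroupOfEquivOfLe (inf_le_left : Q ≤ N)).toEquiv,
        ← ((Walter.Known.odd_basic (Or.inr (by rw [hF])) (by rw [hF]) e).sylow S).1]
      exact Subgroup.card_le_of_le hS
    have hQV : (P : Subgroup G) ⊓ N = Q := Subgroup.eq_of_le_of_card_ge
      (fun x hx => ⟨hx.2, mem_centralizer_singleton_iff.2 (h.comm P hx.1 hv.1)⟩)
      (by rw [hl.four]; exact hle)
    have hα : (MulAut.conjNormal (⟨f, hfC⟩ : C) : MulAut N') = 1 := by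
      refine ((Walter.Known.odd_facts (Or.inr (by rw [hF])) (by rw [hF]) e').1).aut a ha2 _
        ((hodd.of_dvd_nat (dvd_of_eq (Subgroup.orderOf_mk f hfC))).of_dvd_nat
          (orderOf_map_dvd _ _)) fun x hx => ?_
      have hxQ : ((x : C) : G) ∈ Q := ⟨x.2, mem_centralizer_singleton_iff.2
        (congrArg (fun z : N' => ((z : C) : G)) hx)⟩
      have hxP : ((x : C) : G) ∈ (P : Subgroup G) := (hQV.symm ▸ hxQ :
        ((x : C) : G) ∈ (P : Subgroup G) ⊓ N).1
      refine Subtype.ext (Subtype.ext ?_)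
      rw [MulAut.conjNormal_apply]
      show f * ((x : C) : G) * f⁻¹ = ((x : C) : G)
      rw [← mem_centralizer_iff.1 hf _ hxP, mul_inv_cancel_right]
    intro n hn
    have h1 := congrArg Subtype.val (DFunLike.congr_fun hα ⟨⟨n, hNC hn⟩, hn⟩)
    rw [MulAut.conjNormal_apply, MulAut.one_apply] at h1
    exact mul_inv_eq_iff_eq_mul.1 (congrArg Subtype.val h1)
  -- the centraliser in the socle
  have hsplitL : ∀ x ∈ L, x * s = s * x → x ∈ N ∨ s * x ∈ N := by
    intro x hxL hxs
    obtain ⟨n, hn, hw⟩ := hl.decomp x hxs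
    set w := n⁻¹ * x with hwdef
    have hwL : w ∈ L := mul_mem (inv_mem (hl.N_le hn)) hxL
    obtain ⟨z, hz⟩ := exists_isPPart Nat.prime_two w
    have hzw := BrauerMap.PrincipalSection.isPPart_mem_zpowers Nat.prime_two hz
    obtain ⟨f, hf, -, hz2, hfodd⟩ := hz
    have hzC : z ∈ centralizer ((P : Subgroup G) : Set G) := zpowers_le.2 hw hzw
    have hzL : z ∈ L := zpowers_le.2 hwL hzw
    have hfC : f ∈ centralizer ((P : Subgroup G) : Set G) :=
      (mul_mem_cancel_left hzC).1 (hf ▸ hw)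
    have hfL : f ∈ L := (mul_mem_cancel_left hzL).1 (hf ▸ hwL)
    have hfo : Odd (orderOf f) := Nat.odd_iff.2 (Nat.two_dvd_ne_zero.1 hfodd)
    have hf1 : f = 1 := by
      refine (hl.cent_eq f hfL (mem_centralizer_iff.1 hfC s hl.s_mem).symm
        (hcentN f hfC hfo)).resolve_right fun e1 => hfodd ?_
      rw [e1, h.s_inv]
    rw [hf1, mul_one] at hf
    have hwP : w ∈ (P : Subgroup G) := hf ▸ mem_sylow_of_commute P hz2 hzC
    have hx : x = n * w := by rw [hwdef, mul_inv_cancel_left]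
    rcases hl.cases w hwP with hwN | hwN
    · left; rw [hx]; exact mul_mem hn hwN
    · right
      rw [hx, ← mul_assoc, ← hl.N_comm n hn, mul_assoc]
      exact mul_mem hn hwN
  have hLtop : L = ⊤ := by
    refine top_le_iff.1 (hsup ▸ sup_le le_rfl
      (centralizer_le_of_odd P hPL fun f hf hodd => ?_))
    set sL : L := ⟨s, hPL hl.s_mem⟩ with hsL
    have hfs : f * s = s * f := (mem_centralizer_iff.1 hf s hl.s_mem).symm
    have ha : (MulAut.conjNormal f : MulAut L) = 1 := by
      refine hfacts.aut sL (by rw [hsL, Subgroup.orderOf_mk, h.s_inv]) _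
        (hodd.of_dvd_nat (orderOf_map_dvd _ f)) fun x hx => ?_
      refine Subtype.ext ?_
      rw [MulAut.conjNormal_apply]
      refine mul_inv_eq_iff_eq_mul.2 ?_
      have hxs : (x : G) * s = s * x := congrArg Subtype.val hx
      rcases hsplitL x x.2 hxs with hxN | hxN
      · exact hcentN f hf hodd x hxN
      · have h1 := hcentN f hf hodd _ hxN
        refine mul_left_cancel (a := s) ?_
        rw [← mul_assoc, ← hfs, mul_assoc, h1, mul_assoc]
    have hf1 : f ∈ centralizer (L : Set G) := mem_centralizer_iff.2 fun x hx => by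
      have := congrArg Subtype.val (DFunLike.congr_fun ha ⟨x, hx⟩)
      rw [MulAut.conjNormal_apply, MulAut.one_apply] at this
      exact (mul_inv_eq_iff_eq_mul.1 this).symm
    rw [hCL, mem_bot] at hf1
    rw [hf1]
    exact one_mem L
  exact ⟨hLtop, fun x hxs => hsplitL x (hLtop ▸ mem_top x) hxs⟩

/-- The squared modulus at an element of order six. -/
theorem exists_sq_six (χ : Cfsg.IrrCharacter G) {k : G} (hsk : Commute s k) (hs : orderOf s = 2)
    (hk : orderOf k = 3) {e : ℤ} (he : (χ : G → ℂ) s = e) :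
    ∃ n : ℕ, (χ : G → ℂ) (s * k) * (χ : G → ℂ) (s * k)⁻¹ = n ∧ (¬ (3 : ℤ) ∣ e → 1 ≤ n) := by
  set g := s * k with hg
  have hg6 : orderOf g = 6 := by
    rw [hg, hsk.orderOf_mul_eq_mul_orderOf_of_coprime (by rw [hs, hk]; norm_num), hs, hk]
  have hk3 : k ^ 3 = 1 := by rw [← hk, pow_orderOf_eq_one]
  have hs2 : s ^ 2 = 1 := by rw [← hs, pow_orderOf_eq_one]
  have hk2 : k ^ 2 = k⁻¹ := eq_inv_of_mul_eq_one_left (by rw [← pow_succ, hk3])
  have p2 : g ^ 2 = k⁻¹ := by rw [hg, hsk.mul_pow, hs2, one_mul, hk2]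
  have p3 : g ^ 3 = s := by
    rw [hg, hsk.mul_pow, hk3, mul_one, pow_succ, hs2, one_mul]
  have p4 : g ^ 4 = k := by
    rw [show (4 : ℕ) = 2 * 2 from rfl, pow_mul, p2, pow_two, ← mul_inv_rev, ← pow_two, hk2, inv_inv]
  have p5 : g ^ 5 = g⁻¹ :=
    eq_inv_of_mul_eq_one_left (by rw [← pow_succ]; exact orderOf_dvd_iff_pow_eq_one.1 (dvd_of_eq hg6))
  obtain ⟨n6, h6⟩ := exists_sum_sq_pow χ g
  obtain ⟨n3, h3⟩ := exists_sum_sq_pow χ k
  rw [hg6] at h6
  rw [hk] at h3
  simp only [Finset.sum_range_succ, Finset.sum_range_zero, zero_add, pow_zero, pow_one, p2, p3, p4,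
    p5, hk2, apply_inv (isCharacter_irr χ), Complex.conj_conj, he, map_intCast,
    conj_apply_one (isCharacter_irr χ), Nat.cast_ofNat] at h6 h3
  obtain ⟨j, hj⟩ := PrincipalFew.exists_int
    (z := (χ : G → ℂ) g * (χ : G → ℂ) g⁻¹)
    ((isIntegral_apply (isCharacter_irr χ) g).mul (isIntegral_apply (isCharacter_irr χ) g⁻¹))
    (m := 6 * (n6 : ℤ) - 3 * (n3 : ℤ) - e * e) (n := 2) (by norm_num)
    (by rw [apply_inv (isCharacter_irr χ)]; push_cast; linear_combination h6 - h3)
  have hreal : ((Complex.normSq ((χ : G → ℂ) g) : ℝ) : ℂ) = (j : ℂ) := by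
    rw [← hj, apply_inv (isCharacter_irr χ), Complex.mul_conj]
  have hj0 : 0 ≤ j := by
    have h1 : Complex.normSq ((χ : G → ℂ) g) = (j : ℝ) := by exact_mod_cast hreal
    have h2 := Complex.normSq_nonneg ((χ : G → ℂ) g)
    rw [h1] at h2
    exact_mod_cast h2
  lift j to ℕ using hj0 with n
  refine ⟨n, by simpa using hj, fun h3e => ?_⟩
  rcases Nat.eq_zero_or_pos n with h0 | h0
  swap
  · exact h0
  exfalso
  rw [apply_inv (isCharacter_irr χ), h0] at hj
  have heq : ((e * e : ℤ) : ℂ) = ((6 * (n6 : ℤ) - 3 * (n3 : ℤ) : ℤ) : ℂ) := by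
    push_cast at hj ⊢
    linear_combination h6 - h3 - 2 * hj
  have heq' : e * e = 6 * (n6 : ℤ) - 3 * (n3 : ℤ) := by exact_mod_cast heq
  exact h3e (by
    rcases Int.Prime.dvd_mul' Nat.prime_three (m := e) (n := e)
      (show ((3 : ℕ) : ℤ) ∣ e * e from ⟨2 * n6 - n3, by rw [heq']; push_cast; ring⟩) with h1 | h1 <;>
    exact h1)

/-- The numerical contradiction. -/
theorem count_false {ι : Type*} (S : Finset ι) (e : ι → ℤ) (w : ι → ℕ)
    (hge : ∀ i ∈ S, -1 ≤ e i) (hsum : ∑ i ∈ S, (e i + 8) * e i = -1)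
    (hw : ∑ i ∈ S, w i = 3) (hw1 : ∀ i ∈ S, ¬ (3 : ℤ) ∣ e i → 1 ≤ w i) : False := by
  classical
  set A := S.filter fun i => e i = -1 with hA
  set B := S.filter fun i => 1 ≤ e i with hB
  set T := S.filter fun i => ¬ (3 : ℤ) ∣ e i with hT
  have hT3 : T.card ≤ 3 :=
    calc T.card = ∑ i ∈ T, 1 := Finset.card_eq_sum_ones T
      _ ≤ ∑ i ∈ T, w i := Finset.sum_le_sum fun i hi =>
          hw1 i (Finset.mem_filter.1 hi).1 (Finset.mem_filter.1 hi).2
      _ ≤ ∑ i ∈ S, w i := Finset.sum_le_sum_of_subset (Finset.filter_subset _ _)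
      _ = 3 := hw
  have hsplit : ∑ i ∈ S, (e i + 8) * e i = -7 * (A.card : ℤ) + ∑ i ∈ B, (e i + 8) * e i := by
    rw [hA, hB, mul_comm (-7 : ℤ), ← nsmul_eq_mul, ← Finset.sum_const, Finset.sum_filter,
      Finset.sum_filter, ← Finset.sum_add_distrib]
    refine Finset.sum_congr rfl fun i hi => ?_
    have := hge i hi
    split_ifs with h1 h2 h2
    · omega
    · rw [h1]; norm_num
    · rw [zero_add]
    · rw [show e i = 0 by omega]; norm_num
  rw [hsum] at hsplit
  have hAT : A ⊆ T := fun i hi => by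
    rw [Finset.mem_filter] at hi
    exact Finset.mem_filter.2 ⟨hi.1, by omega⟩
  have ha3 := (Finset.card_le_card hAT).trans hT3
  have hBterm : ∀ i ∈ B, 9 ≤ (e i + 8) * e i := fun i hi => by
    have := (Finset.mem_filter.1 hi).2
    nlinarith
  have hBle : ∀ i ∈ B, (e i + 8) * e i ≤ 7 * (A.card : ℤ) - 1 := fun i hi => by
    have := Finset.single_le_sum (f := fun i => (e i + 8) * e i)
      (fun j hj => le_trans (by norm_num) (hBterm j hj)) hi
    linarith
  have hB12 : ∀ i ∈ B, e i = 1 ∨ e i = 2 := fun i hi => by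
    have h1 := (Finset.mem_filter.1 hi).2
    have h2 := hBle i hi
    have h3 : (A.card : ℤ) ≤ 3 := by exact_mod_cast ha3
    have : e i ≤ 2 := by nlinarith
    omega
  have hABT : A.card + B.card ≤ 3 := by
    rw [← Finset.card_union_of_disjoint (Finset.disjoint_filter.2 fun i _ h1 h2 => by omega)]
    refine le_trans (Finset.card_le_card (Finset.union_subset hAT fun i hi => ?_)) hT3
    exact Finset.mem_filter.2 ⟨(Finset.mem_filter.1 hi).1, by
      rcases hB12 i hi with h1 | h1 <;> rw [h1] <;> norm_num⟩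
  have hone : ∀ i ∈ B, e i = 1 := fun i hi => (hB12 i hi).resolve_right fun h2 => by
    have h1 := hBle i hi
    rw [h2] at h1
    have hb : 0 < B.card := Finset.card_pos.2 ⟨i, hi⟩
    omega
  rw [Finset.sum_congr rfl fun i hi => show (e i + 8) * e i = 9 by rw [hone i hi]; norm_num,
    Finset.sum_const, nsmul_eq_mul] at hsplit
  omega

/-- The socle is not of Janko–Ree type. -/
theorem jr_false (h : Setting M u s K) [L.Normal]
    (hP : ∀ P : Sylow 2 G, (P : Subgroup G) ≤ L ∧ L ⊔ centralizer ((P : Subgroup G) : Set G) = ⊤)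
    (hCL : centralizer (L : Set G) = ⊥) (hJ : Walter.IsJR L) (hfacts : Walter.KnownFacts L) :
    False := by
  classical
  haveI : Fact (Nat.Prime 2) := ⟨Nat.prime_two⟩
  obtain ⟨P, N, hl, F, _, _, h8, h5, ⟨e⟩⟩ := exists_jrLocal h L hP hJ
  obtain ⟨hPL, hsup⟩ := hP P
  obtain ⟨hK, hF⟩ := jr_eight h hPL hsup hJ hl h8 h5 e
  subst hK
  obtain ⟨-, hsplit⟩ := jr_split h hPL hsup hCL hfacts hl hF e
  have hss : s * s = 1 := h.sq_eq_one P hl.s_mem
  let c : JankoThompson.Cfg G F s :=
    { ord := h.s_inv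
      K := N
      iso := e
      prod := by
        have hs : s ∈ centralizer ({s} : Set G) := mem_centralizer_singleton_iff.2 rfl
        have hN : N ≤ centralizer ({s} : Set G) := fun n hn =>
          mem_centralizer_singleton_iff.2 (hl.N_comm n hn)
        refine ⟨zpowers_le.2 hs, hN, fun a ha b hb => ?_, ?_, ?_⟩
        · obtain ⟨i, rfl⟩ := mem_zpowers_iff.1 ha
          exact ((show Commute s b from (hl.N_comm b hb).symm).zpow_left i).eq
        · refine le_bot_iff.1 fun g hg => ?_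
          obtain ⟨i, hi, rfl⟩ := Finset.mem_image.1
            (mem_zpowers_iff_mem_range_orderOf.1 hg.1)
          rw [h.s_inv, Finset.mem_range] at hi
          interval_cases i
          · rw [pow_zero]; exact one_mem _
          · exact absurd (pow_one s ▸ hg.2) hl.s_not
        · refine le_antisymm (sup_le (zpowers_le.2 hs) hN) fun x hx => ?_
          rcases hsplit x (mem_centralizer_singleton_iff.1 hx) with hxN | hxN
          · exact mem_sup_right hxN
          · rw [show x = s * (s * x) by rw [← mul_assoc, hss, one_mul]]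
            exact mul_mem (mem_sup_left (mem_zpowers s)) (mem_sup_right hxN) }
  obtain ⟨D⟩ := JankoThompson.GSide.exists_quad (kleinPart c.iso h8 h5)
    (kleinPart c.iso h8 h5).hasSteinberg M h.prime
  obtain ⟨u₁, u₂, k, hc, hk3⟩ := exists_cols c.iso h8 h5 D
  have hk' : k ^ 3 = 1 := hk3 hF
  have hsing : ∀ l : c.K, Odd (orderOf l) → 2 ∣ orderOf (s * (l : G)) := fun l hl' => by
    rw [(show Commute s (l : G) from (hl.N_comm l l.2).symm).orderOf_mul_eq_mul_orderOf_of_coprime
      (by rw [h.s_inv, Subgroup.orderOf_coe]; exact Nat.coprime_two_left.2 hl'), h.s_inv]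
    exact dvd_mul_right _ _
  have hodd : ∀ l : c.K, Odd (orderOf l) → ¬ 2 ∣ orderOf (l : G) := fun l hl' => by
    rw [Subgroup.orderOf_coe]
    exact Nat.two_dvd_ne_zero.2 (Nat.odd_iff.1 hl')
  -- the odd part of `u` is trivial
  obtain ⟨y, hy, hcy, hs2, hyodd⟩ := id h.part
  have hyN : y ∈ N := by
    refine (hsplit y hcy.eq.symm).resolve_right fun hyN => ?_
    obtain ⟨j, hj⟩ := Nat.odd_iff.2 (Nat.two_dvd_ne_zero.1 hyodd)
    have h1 : (s * y) ^ orderOf y ∈ N := pow_mem hyN _
    rw [hcy.mul_pow, pow_orderOf_eq_one, mul_one, hj, pow_succ, pow_mul, pow_two, hss, one_pow,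
      one_mul] at h1
    exact hl.s_not h1
  have hy1 : y = 1 := by
    by_contra hne
    let yK : c.K := ⟨y, hyN⟩
    have hpair := c.principal_pairing h.prime yK k⁻¹ hyodd
      (hodd k⁻¹ (by rw [orderOf_inv]; exact hc.odd))
    rw [inv_inv, hc.pairing, show (yK : G) = y from rfl, hy,
      h.const.sum_mul h.prime (hsing k⁻¹ (by rw [orderOf_inv]; exact hc.odd))] at hpair
    set Z := ∑ χ ∈ nontriv M G, (χ : G → ℂ) (s * ((k⁻¹ : c.K) : G))⁻¹ with hZdef
    have hZ : IsIntegral ℤ (-Z) :=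
      (IsIntegral.sum _ fun χ _ => isIntegral_apply (isCharacter_irr χ) _).neg
    rcases steinberg_five c.iso hF D (y := yK)
      (by rw [← Subgroup.orderOf_coe]; exact hyodd) (fun e1 => hne (congrArg Subtype.val e1))
      with hv | hv <;> rw [hv] at hpair
    · have := dvd_of_mul_integral (K := 8) (n := 2) (by norm_num) hZ (by
        push_cast at hpair ⊢; linear_combination hpair)
      omega
    · have := dvd_of_mul_integral (K := 8) (n := 4) (by norm_num) hZ (by
        push_cast at hpair ⊢; linear_combination hpair)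
      omega
  have hus : u = s := by rw [← hy, hy1, mul_one]
  subst hus
  -- degrees and values
  let ev : Cfsg.IrrCharacter G → ℤ := fun χ => (Cfsg.charDegree (χ : G → ℂ) : ℤ) - 8
  have hev : ∀ χ ∈ nontriv M G, (χ : G → ℂ) u = (ev χ : ℂ) := fun χ hχ => by
    have h1 := h.const χ hχ
    rw [char_one_eq_degree] at h1
    simp only [ev]
    push_cast at h1 ⊢
    linear_combination -h1
  have hge : ∀ χ ∈ nontriv M G, -1 ≤ ev χ := fun χ hχ => by
    obtain ⟨j, b, hj, -, -, hb⟩ := jr_value h hPL hsup hJ hl hχ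
    rw [hev χ hχ] at hj
    have hj' : ev χ = j := by exact_mod_cast hj
    simp only [ev] at hj' ⊢
    omega
  have hsum : ∑ χ ∈ nontriv M G, (ev χ + 8) * ev χ = -1 := by
    have h1 := weak_sum h.prime h.singular
    have h2 : ∑ χ ∈ nontriv M G, (Cfsg.charDegree (χ : G → ℂ) : ℂ) * (χ : G → ℂ) u =
        ((∑ χ ∈ nontriv M G, (ev χ + 8) * ev χ : ℤ) : ℂ) := by
      rw [Int.cast_sum]
      refine Finset.sum_congr rfl fun χ hχ => ?_
      rw [hev χ hχ]
      simp only [ev]
      push_cast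
      ring
    rw [h2] at h1
    have h3 : ((∑ χ ∈ nontriv M G, (ev χ + 8) * ev χ : ℤ) : ℂ) = ((-1 : ℤ) : ℂ) := by
      push_cast at h1 ⊢
      linear_combination h1
    exact_mod_cast h3
  -- the column of `u * k`
  have hk1 : k ≠ 1 := fun e1 => by
    have h1 := hc.k1
    rw [e1, D.deg 1] at h1
    have h2 : JankoThompson.GSide.quadDeg (sgnQ (Fintype.card F)) 1 = 5 := by
      rw [hF]; rfl
    rw [h2] at h1
    norm_num at h1
  haveI : Fact (Nat.Prime 3) := ⟨Nat.prime_three⟩
  have hko : orderOf (k : G) = 3 := by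
    rw [Subgroup.orderOf_coe]; exact orderOf_eq_prime hk' hk1
  have hw : ∀ χ ∈ nontriv M G, ∃ n : ℕ,
      (χ : G → ℂ) (u * k) * (χ : G → ℂ) (u * k)⁻¹ = n ∧ (¬ (3 : ℤ) ∣ ev χ → 1 ≤ n) := fun χ hχ =>
    exists_sq_six χ (show Commute u (k : G) from (hl.N_comm k k.2).symm) h.s_inv hko (hev χ hχ)
  let w : Cfsg.IrrCharacter G → ℕ := fun χ => if hχ : χ ∈ nontriv M G then (hw χ hχ).choose else 0
  have hwspec : ∀ χ ∈ nontriv M G, (χ : G → ℂ) (u * k) * (χ : G → ℂ) (u * k)⁻¹ = (w χ : ℂ) ∧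
      (¬ (3 : ℤ) ∣ ev χ → 1 ≤ w χ) := fun χ hχ => by
    simp only [w, dif_pos hχ]
    exact (hw χ hχ).choose_spec
  refine count_false (nontriv M G) ev w hge hsum ?_ fun χ hχ => (hwspec χ hχ).2
  have hpair := c.principal_pairing h.prime k k (hodd k hc.odd) (hodd k hc.odd)
  have hK : ∑ᶠ ψ ∈ Cfsg.principalBlock M ↥c.K,
      (ψ : ↥c.K → ℂ) k * (ψ : ↥c.K → ℂ) k⁻¹ = 2 := by
    rw [D.block, finsum_mem_range D.inj, finsum_eq_sum_of_fintype, Fin.sum_univ_four, hc.k2, hc.k3,
      D.θ_zero, oneChar_apply, oneChar_apply]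
    haveI := Fintype.ofFinite ↥c.K
    have hq : (D.θ 1 : ↥c.K → ℂ) k = -(D.e 1 : ℂ) := by
      have h2 := D.sq 1
      linear_combination (D.e 1 : ℂ) * hc.k1 - (D.θ 1 : ↥c.K → ℂ) k * h2
    rw [apply_inv (isCharacter_irr (D.θ 1)), hq, map_neg, map_intCast]
    linear_combination D.sq 1
  rw [hK, sum_block, oneChar_apply, oneChar_apply,
    Finset.sum_congr rfl fun χ hχ => (hwspec χ hχ).1, ← Nat.cast_sum] at hpair
  have h4 : ((∑ χ ∈ nontriv M G, w χ : ℕ) : ℂ) = ((3 : ℕ) : ℂ) := by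
    push_cast at hpair ⊢
    linear_combination hpair
  exact_mod_cast h4

end Cfsg.Agent.Lib.ConstDiff79
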