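import Cfsg.Agent.Lib.ConstDiff79.Tools
import Cfsg.Agent.Lib.Walter.KnownFactsJR

/-!
# Janko–Ree socle: the centraliser of an involution in the whole group (helper79)
-/

set_option autoImplicit false
set_option linter.style.haveILetI false
set_option linter.unusedSectionVars false

namespace Cfsg.Agent.Lib.ConstDiff79

open Subgroup

universe u

variable {M : Ideal Cfsg.AlgInt} [M.IsMaximal] {G : Type u} [Group G] [Finite G]

/-- A permutation of a four-group fixing a nontrivial element is an involution. -/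
theorem sq_fix {V : Subgroup G} (hV : Nat.card V = 4) {m a : G}
    (hm : ∀ v ∈ V, m * v * m⁻¹ ∈ V) (ha : a ∈ V) (ha1 : a ≠ 1) (hfix : m * a * m⁻¹ = a)
    {v : G} (hv : v ∈ V) : m * (m * v * m⁻¹) * m⁻¹ = v := by
  classical
  haveI := Fintype.ofFinite G
  by_cases h : m * v * m⁻¹ = v
  · rw [h, h]
  have hinj : ∀ x y : G, m * x * m⁻¹ = m * y * m⁻¹ → x = y := fun x y e =>
    mul_left_cancel (mul_right_cancel e)
  set w := m * v * m⁻¹ with hw
  by_contra hne
  have hv1 : v ≠ 1 := fun e => h (by rw [hw, e, mul_one, mul_inv_cancel])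
  have hva : v ≠ a := fun e => h (by rw [hw, e, hfix])
  have hw1 : w ≠ 1 := fun e => hv1 (hinj v 1 (by rw [← hw, e, mul_one, mul_inv_cancel]))
  have hwa : w ≠ a := fun e => hva (hinj v a (by rw [← hw, e, hfix]))
  have hx1 : m * w * m⁻¹ ≠ 1 := fun e =>
    hw1 (hinj w 1 (by rw [e, mul_one, mul_inv_cancel]))
  have hxa : m * w * m⁻¹ ≠ a := fun e => hwa (hinj w a (by rw [e, hfix]))
  have hxw : m * w * m⁻¹ ≠ w := fun e => h (hinj w v (by rw [e, ← hw]))
  have hsub : (({1, a, v, w, m * w * m⁻¹} : Finset G) : Set G) ⊆ (V : Set G) := by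
    intro x hx
    simp only [Finset.coe_insert, Finset.coe_singleton, Set.mem_insert_iff,
      Set.mem_singleton_iff] at hx
    rcases hx with rfl | rfl | rfl | rfl | rfl
    exacts [V.one_mem, ha, hv, hm v hv, hm _ (hm v hv)]
  have h5 : ({1, a, v, w, m * w * m⁻¹} : Finset G).card = 5 := by
    rw [Finset.card_insert_of_notMem, Finset.card_insert_of_notMem,
      Finset.card_insert_of_notMem, Finset.card_pair hxw.symm] <;>
      simp [ha1.symm, hv1.symm, hw1.symm, hx1.symm, hva.symm, hwa.symm, hxa.symm, Ne.symm h,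
        Ne.symm hne]
  have := Set.ncard_le_ncard hsub
  rw [Set.ncard_coe_finset, h5, ← Nat.card_coe_set_eq] at this
  exact absurd (this.trans (le_of_eq hV)) (by norm_num)

/-- The centraliser of an involution over a socle of Janko–Ree type. -/
structure JRLocal (P : Sylow 2 G) (s : G) (L N : Subgroup G) : Prop where
  s_mem : s ∈ (P : Subgroup G)
  card_P : Nat.card (P : Subgroup G) = 8
  N_le : N ≤ L
  N_comm : ∀ n ∈ N, n * s = s * n
  s_not : s ∉ N
  conj_mem : ∀ c : G, c * s = s * c → ∀ n ∈ N, c * n * c⁻¹ ∈ N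
  cases : ∀ x ∈ (P : Subgroup G), x ∈ N ∨ s * x ∈ N
  four : Nat.card ↥((P : Subgroup G) ⊓ N) = 4
  decomp : ∀ c : G, c * s = s * c →
    ∃ n ∈ N, n⁻¹ * c ∈ centralizer ((P : Subgroup G) : Set G)
  cent_eq : ∀ x ∈ L, x * s = s * x → (∀ n ∈ N, x * n = n * x) → x = 1 ∨ x = s

theorem exists_jrLocal {u s : G} {K : ℕ} (h : Setting M u s K) (L : Subgroup G) [L.Normal]
    (hP : ∀ P : Sylow 2 G, (P : Subgroup G) ≤ L ∧ L ⊔ centralizer ((P : Subgroup G) : Set G) = ⊤)
    (hJ : Walter.IsJR L) :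
    ∃ (P : Sylow 2 G) (N : Subgroup G), JRLocal P s L N ∧
      ∃ (F : Type) (_ : Field F) (_ : Fintype F),
        (Fintype.card F % 8 = 3 ∨ Fintype.card F % 8 = 5) ∧ 5 ≤ Fintype.card F ∧
        Nonempty (N ≃* Matrix.ProjectiveSpecialLinearGroup (Fin 2) F) := by
  classical
  haveI : Fact (Nat.Prime 2) := ⟨Nat.prime_two⟩
  obtain ⟨P, hsP⟩ := (IsPGroup.of_card (G := zpowers s) (n := 1)
    (by rw [Nat.card_zpowers, h.s_inv, pow_one])).exists_le_sylow
  have hs : s ∈ (P : Subgroup G) := hsP (mem_zpowers s)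
  obtain ⟨hPL, -⟩ := hP P
  set sL : L := ⟨s, hPL hs⟩ with hsL
  have hsL2 : orderOf sL = 2 := by rw [hsL, Subgroup.orderOf_mk, h.s_inv]
  obtain ⟨E, E₀, hC⟩ := hJ.centralizer sL hsL2
  obtain ⟨F, _, _, h8, h5, ⟨e₀⟩⟩ := hC.2.2.2.2.1
  set N := E₀.map L.subtype with hN
  let e : N ≃* Matrix.ProjectiveSpecialLinearGroup (Fin 2) F :=
    (E₀.equivMapOfInjective L.subtype L.subtype_injective).symm.trans e₀
  have hB := Walter.Known.odd_basic h8 h5 e
  have hNmem : ∀ x : L, (x : G) ∈ N ↔ x ∈ E₀ := fun x =>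
    Subgroup.mem_map_iff_mem L.subtype_injective
  have hNL : N ≤ L := hN ▸ Subgroup.map_subtype_le E₀
  have hNc : ∀ n ∈ N, n * s = s * n := fun n hn =>
    congrArg Subtype.val (Walter.Known.jr_commute hsL2 hC
      (hC.2.1 ((hNmem ⟨n, hNL hn⟩).1 hn)))
  have hnot : s ∉ N := fun hm =>
    Walter.Known.jr_not_mem hsL2 hC (hC.2.1 ((hNmem sL).1 hm))
  have hss : s * s = 1 := h.sq_eq_one P hs
  have hcases : ∀ x ∈ (P : Subgroup G), x ∈ N ∨ s * x ∈ N := by
    intro x hx
    have hxc : (⟨x, hPL hx⟩ : L) * sL = sL * ⟨x, hPL hx⟩ := Subtype.ext (h.comm P hx hs)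
    rcases Walter.Known.jr_decomp hsL2 hC hxc with hE | ⟨f, hf, hxf⟩
    · exact Or.inl ((hNmem _).2 (Walter.Known.jr_involution_mem hsL2 hC hE
        (Subtype.ext (h.sq_eq_one P hx))))
    · have hx' : x = s * (f : G) := congrArg Subtype.val hxf
      have hfx : (f : G) = s * x := by rw [hx', ← mul_assoc, hss, one_mul]
      refine Or.inr ?_
      rw [← hfx, hNmem]
      exact Walter.Known.jr_involution_mem hsL2 hC hf (Subtype.ext (by
        show (f : G) * f = 1
        rw [hfx]; exact h.sq_eq_one P (mul_mem hs hx)))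
  have h8P : Nat.card (P : Subgroup G) = 8 :=
    (Nat.card_congr (Subgroup.subgroupOfEquivOfLe hPL).toEquiv).symm.trans
      (hJ.card_sylow (P.subtype hPL))
  obtain ⟨Q₀⟩ : Nonempty (Sylow 2 N) := inferInstance
  have h4N : 4 ∣ Nat.card N :=
    (hB.sylow Q₀).1 ▸ Subgroup.card_subgroup_dvd_card (Q₀ : Subgroup N)
  -- `N` is normal in the centraliser of `s`
  have hconj : ∀ c : G, c * s = s * c → ∀ n ∈ N, c * n * c⁻¹ ∈ N := by
    intro c hc
    set X := L ⊓ centralizer ({s} : Set G) with hX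
    have hNX : N ≤ X := fun n hn => ⟨hNL hn, mem_centralizer_singleton_iff.2 (hNc n hn)⟩
    have hXn : ∀ x ∈ X, ∀ n ∈ N, x * n * x⁻¹ ∈ N := by
      intro x hx n hn
      have hxc : (⟨x, hx.1⟩ : L) * sL = sL * ⟨x, hx.1⟩ :=
        Subtype.ext (mem_centralizer_singleton_iff.1 hx.2)
      exact (hNmem (⟨x, hx.1⟩ * ⟨n, hNL hn⟩ * ⟨x, hx.1⟩⁻¹)).2
        ((mem_normalizer_iff.1 (Walter.Known.jr_normalizes hsL2 hC hxc) _).1
          ((hNmem ⟨n, hNL hn⟩).1 hn))
    haveI : (N.subgroupOf X).Normal := ⟨fun n hn g => hXn g g.2 n hn⟩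
    have hRX : ∀ n : N, c * (n : G) * c⁻¹ ∈ X := fun n => by
      refine ⟨(inferInstance : L.Normal).conj_mem _ (hNL n.2) c,
        mem_centralizer_singleton_iff.2 ?_⟩
      have hci : c⁻¹ * s = s * c⁻¹ := ((show Commute c s from hc).inv_left).eq
      calc c * (n : G) * c⁻¹ * s = c * ((n : G) * s) * c⁻¹ := by
            rw [mul_assoc, hci, ← mul_assoc, mul_assoc c]
        _ = c * s * n * c⁻¹ := by rw [hNc n n.2]; group
        _ = s * (c * n * c⁻¹) := by rw [hc]; group
    let f : N →* X ⧸ N.subgroupOf X := (QuotientGroup.mk' _).comp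
      (((MulAut.conj c).toMonoidHom.comp N.subtype).codRestrict X hRX)
    haveI := hB.simple
    rcases IsSimpleGroup.eq_bot_or_eq_top_of_normal f.ker (MonoidHom.normal_ker f) with hk | hk
    · exfalso
      have h1 : 4 ∣ Nat.card (X ⧸ N.subgroupOf X) :=
        h4N.trans (Subgroup.card_dvd_of_injective f ((MonoidHom.ker_eq_bot_iff f).1 hk))
      have h2 : 4 ∣ Nat.card (N.subgroupOf X) := by
        rw [Nat.card_congr (Subgroup.subgroupOfEquivOfLe hNX).toEquiv]; exact h4N
      have h16 : 16 ∣ Nat.card X := by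
        rw [Subgroup.card_eq_card_quotient_mul_card_subgroup (N.subgroupOf X)]
        exact Nat.mul_dvd_mul h1 h2
      have h3 := h16.trans (Subgroup.card_subgroup_dvd_card X)
      rw [← (P : Subgroup G).card_mul_index, h8P] at h3
      exact P.not_dvd_index (by omega)
    · intro n hn
      have hmem : (⟨n, hn⟩ : N) ∈ f.ker := by rw [hk]; exact mem_top _
      exact (QuotientGroup.eq_one_iff (⟨c * n * c⁻¹, hRX ⟨n, hn⟩⟩ : X)).1 hmem
  -- the four-group
  set V := (P : Subgroup G) ⊓ N with hV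
  have hVp : IsPGroup 2 (V.subgroupOf N) :=
    (P.2.to_le (inf_le_left : V ≤ (P : Subgroup G))).of_equiv
      (Subgroup.subgroupOfEquivOfLe (inf_le_right : V ≤ N)).symm
  obtain ⟨Q, hQ⟩ := hVp.exists_le_sylow
  have hVcard : Nat.card (V.subgroupOf N) = Nat.card V :=
    Nat.card_congr (Subgroup.subgroupOfEquivOfLe inf_le_right).toEquiv
  have hle4 : Nat.card V ≤ 4 := by
    rw [← hVcard, ← (hB.sylow Q).1]; exact Subgroup.card_le_of_le hQ
  have hge4 : 4 ≤ Nat.card V := by
    have hsub : ((P : Subgroup G) : Set G) ⊆ (V : Set G) ∪ (fun v => s * v) '' (V : Set G) := by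
      intro x hx
      rcases hcases x hx with hn | hn
      · exact Or.inl ⟨hx, hn⟩
      · exact Or.inr ⟨s * x, ⟨mul_mem hs hx, hn⟩, by
          show s * (s * x) = x
          rw [← mul_assoc, hss, one_mul]⟩
    have h1 := (Set.ncard_le_ncard hsub).trans (Set.ncard_union_le _ _)
    have h2 := Set.ncard_image_le (f := fun v => s * v) (s := (V : Set G)) (Set.toFinite _)
    simp only [← Nat.card_coe_set_eq] at h1 h2
    have h1' : Nat.card (P : Subgroup G) ≤ Nat.card V + _ := h1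
    rw [h8P] at h1'
    change _ ≤ Nat.card V at h2
    omega
  have h4 : Nat.card V = 4 := le_antisymm hle4 hge4
  have hQV : (Q : Subgroup N) = V.subgroupOf N :=
    (Subgroup.eq_of_le_of_card_ge hQ (by rw [hVcard, h4, (hB.sylow Q).1])).symm
  obtain ⟨n₀, hn₀, -, htrans⟩ := (Walter.Known.odd_facts h8 h5 e).1.torus Q
  rw [hQV] at hn₀ htrans
  -- factorisation
  have hdec : ∀ m : G, m * s = s * m → (∀ x ∈ (P : Subgroup G), m * x * m⁻¹ ∈ (P : Subgroup G)) →
      ∃ n ∈ N, n⁻¹ * m ∈ centralizer ((P : Subgroup G) : Set G) := by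
    intro m hms hmP
    have hmV : ∀ v ∈ V, m * v * m⁻¹ ∈ V := fun v hv => ⟨hmP v hv.1, hconj m hms v hv.2⟩
    haveI : Nontrivial V := Finite.one_lt_card_iff_nontrivial.1 (by omega)
    obtain ⟨⟨a, ha⟩, hane⟩ := exists_ne (1 : V)
    have ha1 : a ≠ 1 := fun e => hane (Subtype.ext e)
    have hb1 : m * a * m⁻¹ ≠ 1 := fun e => ha1 (by
      have := congrArg (fun x => m⁻¹ * x * m) e
      simpa [mul_assoc] using this)
    obtain ⟨j, hj⟩ := htrans ⟨a, ha.2⟩ ha (fun e => ha1 (congrArg Subtype.val e))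
      ⟨m * a * m⁻¹, (hmV a ha).2⟩ (hmV a ha) (fun e => hb1 (congrArg Subtype.val e))
    set n : N := n₀ ^ j with hn
    have hnV : ∀ v ∈ V, (n : G)⁻¹ * v * n ∈ V := fun v hv => by
      have hnn : n⁻¹ ∈ normalizer ((V.subgroupOf N : Subgroup N) : Set N) :=
        inv_mem (pow_mem hn₀ j)
      have := (mem_normalizer_iff.1 hnn ⟨v, hv.2⟩).1 (show (⟨v, hv.2⟩ : N) ∈ V.subgroupOf N from hv)
      rw [inv_inv] at this
      exact this
    have hns : (n : G)⁻¹ * s * n = s := by
      rw [mul_assoc, ← hNc n n.2, inv_mul_cancel_left]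
    set m' := (n : G)⁻¹ * m with hm'
    have hm's : m' * s * m'⁻¹ = s := by
      rw [hm', mul_inv_rev, inv_inv, mul_assoc (n : G)⁻¹ m s, hms]
      calc (n : G)⁻¹ * (s * m) * (m⁻¹ * n) = (n : G)⁻¹ * s * n := by group
        _ = s := hns
    have hm'a : m' * a * m'⁻¹ = a := by
      have hj' : (n : G) * a * (n : G)⁻¹ = m * a * m⁻¹ := congrArg Subtype.val hj
      calc m' * a * m'⁻¹ = (n : G)⁻¹ * (m * a * m⁻¹) * n := by rw [hm']; group
        _ = (n : G)⁻¹ * ((n : G) * a * (n : G)⁻¹) * n := by rw [hj']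
        _ = a := by group
    have hm'V : ∀ v ∈ V, m' * v * m'⁻¹ ∈ V := fun v hv => by
      rw [show m' * v * m'⁻¹ = (n : G)⁻¹ * (m * v * m⁻¹) * n by rw [hm']; group]
      exact hnV _ (hmV v hv)
    have hm'P : ∀ x ∈ (P : Subgroup G), m' * x * m'⁻¹ ∈ (P : Subgroup G) := fun x hx => by
      rcases hcases x hx with hn' | hn'
      · exact (hm'V x ⟨hx, hn'⟩).1
      · rw [show m' * x * m'⁻¹ = (m' * s * m'⁻¹) * (m' * (s * x) * m'⁻¹) by
          calc m' * x * m'⁻¹ = m' * ((s * s) * x) * m'⁻¹ := by rw [hss, one_mul]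
            _ = _ := by group]
        rw [hm's]
        exact mul_mem hs (hm'V _ ⟨mul_mem hs hx, hn'⟩).1
    have hsq : m' * m' ∈ centralizer ((P : Subgroup G) : Set G) := by
      refine mem_centralizer_iff.2 fun x hx => ?_
      have key : m' * (m' * x * m'⁻¹) * m'⁻¹ = x := by
        rcases hcases x hx with hn' | hn'
        · exact sq_fix h4 hm'V ha ha1 hm'a ⟨hx, hn'⟩
        · have hv := sq_fix h4 hm'V ha ha1 hm'a (v := s * x) ⟨mul_mem hs hx, hn'⟩
          have hx' : x = s * (s * x) := by rw [← mul_assoc, hss, one_mul]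
          calc m' * (m' * x * m'⁻¹) * m'⁻¹
              = m' * (m' * (s * (s * x)) * m'⁻¹) * m'⁻¹ := by rw [← hx']
            _ = (m' * (m' * s * m'⁻¹) * m'⁻¹) * (m' * (m' * (s * x) * m'⁻¹) * m'⁻¹) := by group
            _ = s * (s * x) := by rw [hm's, hm's, hv]
            _ = x := hx'.symm
      calc x * (m' * m') = m' * (m' * x * m'⁻¹) * m'⁻¹ * (m' * m') := by rw [key]
        _ = m' * m' * x := by group
    have hnorm : m' ∈ normalizer ((P : Subgroup G) : Set G) :=
      mem_normalizer_iff.2 fun x => ⟨hm'P x, fun hx => by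
        have hinj : Function.Injective
            (fun y : (P : Subgroup G) => (⟨m' * y * m'⁻¹, hm'P y y.2⟩ : (P : Subgroup G))) :=
          fun y z e => Subtype.ext (mul_left_cancel (mul_right_cancel (congrArg Subtype.val e)))
        obtain ⟨y, hy⟩ := Finite.surjective_of_injective hinj ⟨_, hx⟩
        rw [← mul_left_cancel (mul_right_cancel (congrArg Subtype.val hy))]
        exact y.2⟩
    exact ⟨n, n.2, mem_centralizer_of_sq P (fun x hx y hy => h.comm P hx hy) hnorm hsq⟩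
  refine ⟨P, N, ⟨hs, h8P, hNL, hNc, hnot, hconj, hcases, h4, fun c hc => ?_, fun x hxL hxs hxN => ?_⟩,
    F, inferInstance, inferInstance, h8, h5, ⟨e⟩⟩
  swap
  · have h1 := Walter.Known.jr_centralizer hsL2 hC (x := ⟨x, hxL⟩) (Subtype.ext hxs)
      fun y hy => Subtype.ext (hxN y ((hNmem y).2 hy))
    exact h1.imp (congrArg Subtype.val) (congrArg Subtype.val)
  -- Frattini argument in the centraliser
  set C := centralizer ({s} : Set G) with hCdef
  have hPC : (P : Subgroup G) ≤ C := fun x hx => mem_centralizer_singleton_iff.2 (h.comm P hx hs)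
  let sC : C := ⟨s, hPC hs⟩
  haveI : (N.subgroupOf C).Normal :=
    ⟨fun n hn g => hconj g (mem_centralizer_singleton_iff.1 g.2) n hn⟩
  haveI : (zpowers sC).Normal := ⟨fun x hx g => by
    obtain ⟨i, rfl⟩ := mem_zpowers_iff.1 hx
    have hg : Commute g sC := Subtype.ext (mem_centralizer_singleton_iff.1 g.2)
    rw [(hg.zpow_right i).eq, mul_inv_cancel_right]
    exact zpow_mem_zpowers sC i⟩
  have hPT : (P.subtype hPC : Subgroup C) ≤ N.subgroupOf C ⊔ zpowers sC := by
    intro x hx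
    rcases hcases x hx with hn | hn
    · exact mem_sup_left hn
    · rw [show x = sC * (sC * x) from Subtype.ext (by
        show (x : G) = s * (s * x)
        rw [← mul_assoc, hss, one_mul])]
      exact mul_mem (mem_sup_right (mem_zpowers sC)) (mem_sup_left hn)
  have hfr := (P.subtype hPC).normalizer_sup_eq_top' hPT
  have hcC : c ∈ C := mem_centralizer_singleton_iff.2 hc
  have hmem : (⟨c, hcC⟩ : C) ∈
      (↑(normalizer ((P.subtype hPC : Sylow 2 C) : Set C) ⊔
        (N.subgroupOf C ⊔ zpowers sC)) : Set C) := by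
    rw [hfr]; trivial
  rw [Subgroup.mul_normal] at hmem
  obtain ⟨m, hm, t, ht, hmt⟩ := Set.mem_mul.1 hmem
  rw [SetLike.mem_coe, ← SetLike.mem_coe, Subgroup.mul_normal] at ht
  obtain ⟨n₁, hn₁, z, hz, rfl⟩ := Set.mem_mul.1 ht
  have hms := mem_centralizer_singleton_iff.1 m.2
  obtain ⟨n₂, hn₂, hw⟩ := hdec m hms fun x hx =>
    (mem_normalizer_iff.1 hm ⟨x, hPC hx⟩).1 hx
  set w := n₂⁻¹ * (m : G) with hwdef
  have hws : w * s = s * w := (mem_centralizer_iff.1 hw s hs).symm
  have hzc : (z : G) ∈ centralizer ((P : Subgroup G) : Set G) := by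
    obtain ⟨i, rfl⟩ := mem_zpowers_iff.1 hz
    rw [SubgroupClass.coe_zpow]
    exact zpow_mem (mem_centralizer_iff.2 fun x hx => h.comm P hx hs) i
  refine ⟨n₂ * (w * (n₁ : G) * w⁻¹), mul_mem hn₂ (hconj w hws _ hn₁), ?_⟩
  have hc' : c = (m : G) * ((n₁ : G) * z) := (congrArg Subtype.val hmt).symm
  rw [show (n₂ * (w * (n₁ : G) * w⁻¹))⁻¹ * c = w * (z : G) by rw [hc', hwdef]; group]
  exact mul_mem hw hzc

end Cfsg.Agent.Lib.ConstDiff79
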