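import Cfsg.Agent.Lib.ConstDiff79.JRLocal
import Cfsg.Agent.Lib.ConstDiff79.Cent
import Cfsg.Agent.Lib.ConstDiff79.Four

/-!
# Janko–Ree socle: the difference is eight and the field has five elements (helper79)
-/

set_option autoImplicit false
set_option linter.style.haveILetI false
set_option linter.unusedSectionVars false

namespace Cfsg.Agent.Lib.ConstDiff79

open Subgroup
open scoped ComplexConjugate
open Cfsg.Agent.Lib.Blocks Cfsg.Agent.Lib.Blocks.Contrib
open Cfsg.Agent.Lib.Characters.Basic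
open Cfsg.Agent.Lib.JankoThompson (sgnQ)
open Cfsg.Agent.Lib.BrauerMap

universe u

variable {M : Ideal Cfsg.AlgInt} [M.IsMaximal] {G : Type u} [Group G] [Finite G]

/-- Characters are constant on classes. -/
theorem apply_eq_of_conj {χ : G → ℂ} (hχ : Cfsg.IsCharacter G χ) {a b : G} (h : IsConj a b) :
    χ a = χ b := by
  obtain ⟨g, rfl⟩ := isConj_iff.1 h
  exact (isClassFunction_of_isCharacter hχ a g).symm

/-- The multiplicity of the trivial character on a subgroup where a character takes one value. -/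
theorem exists_mult (χ : Cfsg.IrrCharacter G) (P : Subgroup G) {j : ℂ}
    (hj : ∀ x ∈ P, x ≠ 1 → (χ : G → ℂ) x = j) :
    ∃ b : ℕ, (Cfsg.charDegree (χ : G → ℂ) : ℂ) + ((Nat.card P - 1 : ℕ) : ℂ) * j =
      (Nat.card P : ℂ) * b := by
  classical
  haveI := Fintype.ofFinite P
  have hres : Cfsg.IsCharacter P (fun x : P => (χ : G → ℂ) x) :=
    isCharacter_comp P.subtype (isCharacter_irr χ)
  obtain ⟨b, hb⟩ := exists_classInner_nat hres (isCharacter_one (G := P))
  refine ⟨b, ?_⟩
  rw [Cfsg.classInner, inv_mul_eq_iff_eq_mul₀ (Nat.cast_ne_zero.2 Nat.card_pos.ne')] at hb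
  rw [← hb]
  simp only [Pi.one_apply, map_one, mul_one]
  rw [← Finset.add_sum_erase _ _ (Finset.mem_univ (1 : P)), OneMemClass.coe_one, char_one_eq_degree,
    Finset.sum_congr rfl fun (x : P) hx => hj x x.2 fun e => (Finset.mem_erase.1 hx).1 (Subtype.ext e),
    Finset.sum_const, Finset.card_erase_of_mem (Finset.mem_univ _), Finset.card_univ,
    nsmul_eq_mul, Nat.card_eq_fintype_card]

variable {u s : G} {K : ℕ} {L N : Subgroup G} {P : Sylow 2 G} {F : Type} [Field F] [Fintype F]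

theorem JRLocal.two_dvd (hl : JRLocal P s L N) : 2 ∣ Nat.card N :=
  (show 2 ∣ 4 by norm_num).trans (hl.four ▸ Subgroup.card_dvd_of_le inf_le_right)

/-- The four columns give that the difference divides eight. -/
theorem jr_dvd_eight (h : Setting M u s K) (hl : JRLocal P s L N)
    (h8 : Fintype.card F % 8 = 3 ∨ Fintype.card F % 8 = 5) (h5 : 5 ≤ Fintype.card F)
    (e : N ≃* Matrix.ProjectiveSpecialLinearGroup (Fin 2) F) : K ∣ 8 := by
  classical
  haveI : Fact (Nat.Prime 2) := ⟨Nat.prime_two⟩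
  set C := centralizer ({s} : Set G) with hC
  have hNC : N ≤ C := fun n hn => mem_centralizer_singleton_iff.2 (hl.N_comm n hn)
  set N' := N.subgroupOf C with hN'
  haveI : N'.Normal := ⟨fun n hn g => hl.conj_mem g (mem_centralizer_singleton_iff.1 g.2) n hn⟩
  let e' : N' ≃* Matrix.ProjectiveSpecialLinearGroup (Fin 2) F :=
    (Subgroup.subgroupOfEquivOfLe hNC).trans e
  obtain ⟨D⟩ := JankoThompson.GSide.exists_quad (kleinPart e' h8 h5)
    (kleinPart e' h8 h5).hasSteinberg M h.prime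
  obtain ⟨u₁, u₂, k, hc, -⟩ := exists_cols e' h8 h5 D
  obtain ⟨v, hv⟩ := exists_prime_orderOf_dvd_card' (G := N') 2 (by
    rw [Nat.card_congr (Subgroup.subgroupOfEquivOfLe hNC).toEquiv]; exact hl.two_dvd)
  obtain ⟨y, hy, hcy, hs2, hyodd⟩ := id h.part
  have hsC : s ∈ C := mem_centralizer_singleton_iff.2 rfl
  have hyC : y ∈ C := mem_centralizer_singleton_iff.2 hcy.eq.symm
  have hPC : (P : Subgroup G) ≤ C := fun x hx =>
    mem_centralizer_singleton_iff.2 (h.comm P hx hl.s_mem)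
  set sC : C := ⟨s, hsC⟩ with hsCdef
  set yC : C := ⟨y, hyC⟩ with hyCdef
  have hcen : ∀ g : C, Commute sC g := fun g =>
    Subtype.ext (mem_centralizer_singleton_iff.1 g.2).symm
  have hsC2 : orderOf sC = 2 := by rw [hsCdef, Subgroup.orderOf_mk, h.s_inv]
  have hyCodd : ¬ 2 ∣ orderOf yC := by rwa [hyCdef, Subgroup.orderOf_mk]
  have hP' : (P.subtype hPC : Subgroup C) ≤ N' ⊔ zpowers sC := fun x hx => by
    rcases hl.cases x hx with hn | hn
    · exact mem_sup_left hn
    · rw [show x = sC * (sC * x) from Subtype.ext (by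
        show (x : G) = s * (s * x)
        rw [← mul_assoc, h.sq_eq_one P hl.s_mem, one_mul])]
      exact mul_mem (mem_sup_right (mem_zpowers sC)) (mem_sup_left hn)
  have hsup : N' ⊔ zpowers sC ⊔ centralizer ((P.subtype hPC : Subgroup C) : Set C) = ⊤ :=
    top_le_iff.1 fun c _ => by
      obtain ⟨n, hn, hw⟩ := hl.decomp c (mem_centralizer_singleton_iff.1 c.2)
      rw [show c = (⟨n, hNC hn⟩ : C) * (⟨n, hNC hn⟩⁻¹ * c) by rw [mul_inv_cancel_left]]
      refine mul_mem (mem_sup_left (mem_sup_left hn)) (mem_sup_right ?_)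
      exact mem_centralizer_iff.2 fun x hx => Subtype.ext (mem_centralizer_iff.1 hw x hx)
  have hsum := sum_cols h.prime (P.subtype hPC) N' hcen hsC2 (fun hm => hl.s_not hm) hP' hsup
    hyCodd (a := u₁) (b := u₂) (c := k) (d := v)
    fun θ hθ hne => hc.comb (hv ▸ dvd_rfl) hθ hne
  have hpC : Cfsg.IsPPart 2 (sC * yC) sC :=
    ⟨yC, rfl, hcen yC, ⟨1, by rw [hsC2, pow_one]⟩, hyCodd⟩
  -- a regular column
  have hterm : ∀ w : N', Odd (orderOf w) →
      ∑ ψ ∈ bset (Cfsg.principalBlock M C), (ψ : C → ℂ) (sC * yC) * conj ((ψ : C → ℂ) (sC * w)) =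
        -(K : ℂ) * ∑ χ ∈ nontriv M G, (χ : G → ℂ) (s * ((w : C) : G))⁻¹ := by
    intro w hw
    have hwodd : ¬ 2 ∣ orderOf ((w : C) : G) := by
      rw [Subgroup.orderOf_coe, Subgroup.orderOf_coe]
      exact Nat.two_dvd_ne_zero.2 (Nat.odd_iff.1 hw)
    have hcw : Commute s ((w : C) : G) := congrArg Subtype.val (hcen w)
    have hG : ((sC * yC : C) : G) = u := hy
    have hh : Cfsg.IsPPart 2 ((sC * (w : C) : C) : G) s :=
      ⟨((w : C) : G), rfl, hcw, ⟨1, by rw [h.s_inv, pow_one]⟩, hwodd⟩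
    have hsec := PrincipalSection.sum_principal_section h.prime (sC * yC) (sC * (w : C))
      (by rw [hG]; exact h.part) hh
    have hsing : 2 ∣ orderOf ((sC * (w : C) : C) : G) := by
      show 2 ∣ orderOf (s * ((w : C) : G))
      rw [hcw.orderOf_mul_eq_mul_orderOf_of_coprime
        (by rw [h.s_inv]; exact Nat.prime_two.coprime_iff_not_dvd.2 hwodd), h.s_inv]
      exact dvd_mul_right _ _
    rw [hG, h.const.sum_mul h.prime hsing, finsum_mem_bset] at hsec
    exact (Finset.sum_congr rfl fun ψ _ => by rw [← apply_inv (isCharacter_irr ψ)]).trans hsec.symm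
  have hzero : ∑ ψ ∈ bset (Cfsg.principalBlock M C),
      (ψ : C → ℂ) (sC * yC) * conj ((ψ : C → ℂ) (sC * (v : C))) = 0 := by
    have hv2 : (v : C) * (v : C) = 1 := by
      rw [← pow_two, ← hv, ← SubmonoidClass.coe_pow, pow_orderOf_eq_one, OneMemClass.coe_one]
    have hsv2 : orderOf (sC * (v : C)) = 2 := orderOf_eq_prime
      (by rw [(hcen (v : C)).mul_pow, pow_two, pow_two, hv2, ← pow_two, ← hsC2, pow_orderOf_eq_one,
        one_mul])
      fun e1 => hl.s_not (show sC ∈ N' by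
        rw [eq_inv_of_mul_eq_one_left e1]; exact inv_mem v.2)
    have hne : ¬ IsConj sC (sC * (v : C)) := fun hcj => by
      obtain ⟨g, hg⟩ := isConj_iff.1 hcj
      rw [← (hcen g).eq, mul_inv_cancel_right] at hg
      have : v = 1 := Subtype.ext (mul_left_cancel (hg.symm.trans (mul_one sC).symm))
      rw [this, orderOf_one] at hv
      omega
    have h0 := sum_block_eq_zero h.prime hpC
      (isPPart_self Nat.prime_two ⟨1, by rw [hsv2, pow_one]⟩) hne
      (isPBlock_principalBlock (G := C) (M := M))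
    rw [finsum_mem_bset] at h0
    exact (Finset.sum_congr rfl fun ψ _ => by rw [← apply_inv (isCharacter_irr ψ)]).trans h0
  rw [finsum_mem_bset] at hsum
  simp only [map_add, mul_add, Finset.sum_add_distrib] at hsum
  rw [hterm u₁ hc.odd₁, hterm u₂ hc.odd₂, hterm k hc.odd, hzero, add_zero] at hsum
  refine dvd_of_mul_integral h.pos.ne'
    (z := -(∑ χ ∈ nontriv M G, (χ : G → ℂ) (s * ((u₁ : C) : G))⁻¹ +
      ∑ χ ∈ nontriv M G, (χ : G → ℂ) (s * ((u₂ : C) : G))⁻¹ +
      ∑ χ ∈ nontriv M G, (χ : G → ℂ) (s * ((k : C) : G))⁻¹)) ?_ ?_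
  · exact (((IsIntegral.sum _ fun χ _ => isIntegral_apply (isCharacter_irr χ) _).add
      (IsIntegral.sum _ fun χ _ => isIntegral_apply (isCharacter_irr χ) _)).add
      (IsIntegral.sum _ fun χ _ => isIntegral_apply (isCharacter_irr χ) _)).neg
  · push_cast
    linear_combination hsum

/-- The value at an involution of a nontrivial member of the principal block. -/
theorem jr_value (h : Setting M u s K) [L.Normal] (hPL : (P : Subgroup G) ≤ L)
    (hsup : L ⊔ centralizer ((P : Subgroup G) : Set G) = ⊤) (hJ : Walter.IsJR L)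
    (hl : JRLocal P s L N) {χ : Cfsg.IrrCharacter G} (hχ : χ ∈ nontriv M G) :
    ∃ (j : ℤ) (b : ℕ), (χ : G → ℂ) s = j ∧ j < Cfsg.charDegree (χ : G → ℂ) ∧
      -(Cfsg.charDegree (χ : G → ℂ) : ℤ) ≤ j ∧
      (Cfsg.charDegree (χ : G → ℂ) : ℤ) + 7 * j = 8 * b := by
  classical
  set d := Cfsg.charDegree (χ : G → ℂ) with hd
  obtain ⟨b, hb⟩ := exists_mult χ (P : Subgroup G) (j := (χ : G → ℂ) s) fun x hx hx1 => by
    have ho : orderOf x = 2 := orderOf_eq_prime (by rw [pow_two]; exact h.sq_eq_one P hx) hx1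
    exact (apply_eq_of_conj (isCharacter_irr χ) (h.isConj_inv ho)).symm
  rw [hl.card_P, ← hd] at hb
  norm_num at hb
  obtain ⟨j, hj⟩ := PrincipalFew.exists_int (isIntegral_apply (isCharacter_irr χ) s)
    (m := 8 * (b : ℤ) - d) (n := 7) (by norm_num) (by push_cast; linear_combination hb)
  refine ⟨j, b, hj, ?_, ?_, ?_⟩
  rotate_left
  · have h1 := norm_apply_le (isCharacter_irr χ) s
    rw [hj, char_one_eq_degree, ← hd, Complex.norm_intCast, Complex.norm_natCast] at h1
    exact (abs_le.1 (show |j| ≤ (d : ℤ) by exact_mod_cast h1)).1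
  · rw [hj] at hb
    exact_mod_cast hb
  · have h1 := norm_apply_le (isCharacter_irr χ) s
    rw [hj, char_one_eq_degree, ← hd, Complex.norm_intCast, Complex.norm_natCast] at h1
    refine lt_of_le_of_ne (abs_le.1 (show |j| ≤ (d : ℤ) by exact_mod_cast h1)).2 fun hjd => ?_
    have hker : s ∈ Characters.Kernel.charKer (isCharacter_irr χ) := by
      rw [Characters.Kernel.mem_charKer, char_one_eq_degree, ← hd, hj, hjd, Int.cast_natCast]
    haveI := Characters.Kernel.charKer_normal (isCharacter_irr χ)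
    haveI := hJ.simple
    rcases IsSimpleGroup.eq_bot_or_eq_top_of_normal
      ((Characters.Kernel.charKer (isCharacter_irr χ)).subgroupOf L) inferInstance with hk | hk
    · have : (⟨s, hPL hl.s_mem⟩ : L) = 1 := by
        rw [← Subgroup.mem_bot, ← hk]; exact hker
      have hs1 : s = 1 := congrArg Subtype.val this
      have := h.s_inv
      rw [hs1, orderOf_one] at this
      omega
    · obtain ⟨x, hx⟩ := ne_on_socle h L P hPL hsup hχ
      have hm : x ∈ (Characters.Kernel.charKer (isCharacter_irr χ)).subgroupOf L := by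
        rw [hk]; exact mem_top x
      exact hx hm

/-- The difference is eight and the field has five elements. -/
theorem jr_eight (h : Setting M u s K) [L.Normal] (hPL : (P : Subgroup G) ≤ L)
    (hsup : L ⊔ centralizer ((P : Subgroup G) : Set G) = ⊤) (hJ : Walter.IsJR L)
    (hl : JRLocal P s L N) (h8 : Fintype.card F % 8 = 3 ∨ Fintype.card F % 8 = 5)
    (h5 : 5 ≤ Fintype.card F) (e : N ≃* Matrix.ProjectiveSpecialLinearGroup (Fin 2) F) :
    K = 8 ∧ Fintype.card F = 5 := by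
  classical
  haveI : Fact (Nat.Prime 2) := ⟨Nat.prime_two⟩
  have hK := jr_dvd_eight h hl h8 h5 e
  have hK8 := Nat.le_of_dvd (by norm_num) hK
  obtain ⟨χ, hχ, hd⟩ := h.small
  obtain ⟨j, b, hj, hlt, hge, hb⟩ := jr_value h hPL hsup hJ hl hχ
  obtain ⟨hd7, hj1⟩ : Cfsg.charDegree (χ : G → ℂ) = 7 ∧ j = -1 := by omega
  refine ⟨by omega, ?_⟩
  -- a constituent on the centraliser
  set C := centralizer ({s} : Set G) with hC
  have hNC : N ≤ C := fun n hn => mem_centralizer_singleton_iff.2 (hl.N_comm n hn)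
  haveI := Fintype.ofFinite C
  haveI := Fintype.ofFinite (Cfsg.IrrCharacter C)
  set N' := N.subgroupOf C with hN'
  haveI := Fintype.ofFinite N'
  haveI := Fintype.ofFinite (Cfsg.IrrCharacter N')
  let e' : N' ≃* Matrix.ProjectiveSpecialLinearGroup (Fin 2) F :=
    (Subgroup.subgroupOfEquivOfLe hNC).trans e
  haveI : Nontrivial ↥((P : Subgroup G) ⊓ N) :=
    Finite.one_lt_card_iff_nontrivial.1 (by rw [hl.four]; norm_num)
  obtain ⟨⟨v, hv⟩, hvne⟩ := exists_ne (1 : ↥((P : Subgroup G) ⊓ N))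
  have hv1 : v ≠ 1 := fun e1 => hvne (Subtype.ext e1)
  have hov : orderOf v = 2 := orderOf_eq_prime (by rw [pow_two]; exact h.sq_eq_one P hv.1) hv1
  have hχv : (χ : G → ℂ) v = -1 := by
    rw [← apply_eq_of_conj (isCharacter_irr χ) (h.isConj_inv hov), hj, hj1]
    norm_num
  obtain ⟨m, hexp, hdeg, η, hη, hηne⟩ := exists_constituent C χ (x := ⟨v, hNC hv.2⟩) (by
    rw [show ((⟨v, hNC hv.2⟩ : C) : G) = v from rfl, hχv, char_one_eq_degree, hd7]
    norm_num)
  set sC : C := ⟨s, mem_centralizer_singleton_iff.2 rfl⟩ with hsC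
  have hcen : ∀ g : C, Commute sC g := fun g =>
    Subtype.ext (mem_centralizer_singleton_iff.1 g.2).symm
  have hsq : sC * sC = 1 := Subtype.ext (h.sq_eq_one P hl.s_mem)
  let p : Cfsg.IrrCharacter C → ℕ := fun ζ =>
    if (ζ : C → ℂ) sC = (ζ : C → ℂ) 1 then m ζ * Cfsg.charDegree (ζ : C → ℂ) else 0
  let r : Cfsg.IrrCharacter C → ℕ := fun ζ =>
    if (ζ : C → ℂ) sC = (ζ : C → ℂ) 1 then 0 else m ζ * Cfsg.charDegree (ζ : C → ℂ)
  have hpr : ∀ ζ, p ζ + r ζ = m ζ * Cfsg.charDegree (ζ : C → ℂ) := fun ζ => by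
    simp only [p, r]; split_ifs <;> simp
  have hval : ∀ ζ : Cfsg.IrrCharacter C,
      (m ζ : ℂ) * (ζ : C → ℂ) sC = (p ζ : ℂ) - r ζ := fun ζ => by
    simp only [p, r]
    split_ifs with hif
    · rw [hif, char_one_eq_degree]; push_cast; ring
    · obtain ⟨a, ha⟩ := exists_scalar hcen ζ
      have h1 : (ζ : C → ℂ) sC = a * (ζ : C → ℂ) 1 := by rw [← ha, mul_one]
      have h2 : (ζ : C → ℂ) 1 = a * (a * (ζ : C → ℂ) 1) := by
        rw [← h1, ← ha, hsq]
      have ha2 : a * a = 1 :=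
        mul_right_cancel₀ (apply_one_ne_zero ζ) (by linear_combination -h2)
      rcases mul_self_eq_one_iff.1 ha2 with rfl | rfl
      · exact absurd (by rw [h1, one_mul]) hif
      · rw [h1, char_one_eq_degree]; push_cast; ring
  have hs1 : (∑ ζ, p ζ) + ∑ ζ, r ζ = 7 := by
    rw [← Finset.sum_add_distrib, Finset.sum_congr rfl fun ζ _ => hpr ζ, ← hdeg, hd7]
  have hs2 : ((∑ ζ, p ζ : ℕ) : ℤ) - ((∑ ζ, r ζ : ℕ) : ℤ) = -1 := by
    have h1 := hexp sC
    rw [show ((sC : C) : G) = s from rfl, hj, hj1, Finset.sum_congr rfl fun ζ _ => hval ζ,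
      Finset.sum_sub_distrib, ← Nat.cast_sum, ← Nat.cast_sum] at h1
    exact_mod_cast h1.symm
  have hη4 : Cfsg.charDegree (η : C → ℂ) ≤ 4 := by
    have h1 := Nat.le_mul_of_pos_left (Cfsg.charDegree (η : C → ℂ)) hη
    rw [← hpr η] at h1
    have h2 := Finset.single_le_sum (f := p) (fun _ _ => Nat.zero_le _) (Finset.mem_univ η)
    have h3 := Finset.single_le_sum (f := r) (fun _ _ => Nat.zero_le _) (Finset.mem_univ η)
    have h4 : p η = 0 ∨ r η = 0 := by
      simp only [p, r]; split_ifs <;> simp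
    omega
  obtain ⟨m', -, hdeg', θ, hθ, hθne⟩ :=
    exists_constituent N' η (x := ⟨⟨v, hNC hv.2⟩, hv.2⟩) hηne
  have h1 := le_degree e' h5 (θ := θ) fun he => hθne (by rw [he, oneChar_apply, oneChar_apply])
  have h2 : Cfsg.charDegree (θ : N' → ℂ) ≤ Cfsg.charDegree (η : C → ℂ) := by
    rw [hdeg']
    exact le_trans (Nat.le_mul_of_pos_left _ hθ)
      (Finset.single_le_sum (f := fun ζ => m' ζ * Cfsg.charDegree (ζ : N' → ℂ))
        (fun _ _ => Nat.zero_le _) (Finset.mem_univ θ))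
  omega

end Cfsg.Agent.Lib.ConstDiff79
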