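import Cfsg.Agent.Lib.ConstDiff79.Reduce
import Cfsg.Agent.Lib.ConstDiff79.Backward
import Cfsg.Agent.Lib.ConstDiff79.Even
import Cfsg.Agent.Lib.ConstDiff79.JRFive
import Cfsg.Agent.Lib.Walter.Main
import Cfsg.Agent.Lib.GorensteinWalter.Main
import Cfsg.Agent.Lib.Cores.Basic

/-!
# The groups with constant degree minus value on the principal 2-block (helper79)
-/

set_option autoImplicit false
set_option linter.style.haveILetI false
set_option linter.unusedSectionVars false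

namespace Cfsg.Agent.Lib.ConstDiff79

open Subgroup

universe u

variable {M : Ideal Cfsg.AlgInt} [M.IsMaximal] {G : Type u} [Group G] [Finite G]

/-- The case of a nonzero difference with trivial odd core. -/
theorem classify {u s : G} {K : ℕ} (h : Setting M u s K) :
    Nat.card G = 2 ∨ ∃ (F : Type) (_ : Field F) (_ : Fintype F) (n : ℕ), 2 ≤ n ∧
      Fintype.card F = 2 ^ n ∧ u * u = 1 ∧ u ≠ 1 ∧
      Nonempty (G ≃* Matrix.ProjectiveSpecialLinearGroup (Fin 2) F) := by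
  haveI : Fact (Nat.Prime 2) := ⟨Nat.prime_two⟩
  rcases h.structure' with h2 | ⟨L, hLn, hs, hnab, hP, hCL⟩
  · exact Or.inl h2
  right
  haveI := hLn
  have hab : Walter.AbelianSylow L := fun Q => ⟨⟨fun x y => by
    obtain ⟨P, hQP⟩ := (Q.2.map L.subtype).exists_le_sylow
    exact Subtype.ext (Subtype.ext (h.comm P (hQP ⟨x, x.2, rfl⟩) (hQP ⟨y, y.2, rfl⟩)))⟩⟩
  have hknown := Walter.propKnown BenderOne.propSplitFinal GorensteinWalter.propMainFinal L hs hnab
    hab
  have hfacts := (Walter.knownFacts BenderOne.propSplitFinal).1 L hknown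
  rcases hknown with ⟨n, F, _, _, hn, hF, ⟨e⟩⟩ | ⟨F, _, _, h8, h5, ⟨e⟩⟩ | hJ
  · obtain ⟨a, b, c⟩ := even_case h L hP hCL (le_trans (by norm_num) hn) hF e
    exact ⟨F, inferInstance, inferInstance, n, le_trans (by norm_num) hn, hF, a, b, c⟩
  · have h4 : ∀ P : Sylow 2 G, Nat.card (P : Subgroup G) = 4 := fun P =>
      (Nat.card_congr (Subgroup.subgroupOfEquivOfLe (hP P).1).toEquiv).symm.trans
        ((Walter.Known.odd_basic h8 h5 e).sylow (P.subtype (hP P).1)).1
    have hq := four_case h L hP h4 h8 h5 e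
    obtain ⟨F₄, _, _, hF₄, ⟨e₄⟩⟩ := Walter.Known.psl_five_to_four hq e
    have hF' : Fintype.card F₄ = 2 ^ 2 := by rw [hF₄]; norm_num
    obtain ⟨a, b, c⟩ := even_case h L hP hCL le_rfl hF' e₄
    exact ⟨F₄, inferInstance, inferInstance, 2, le_rfl, hF', a, b, c⟩
  · exact (jr_false h hP hCL hJ hfacts).elim

/-- The criterion. -/
theorem isConst_iff (hM : Cfsg.IsPModular 2 M) (u : G) :
    (∃ k : ℂ, IsConst M u k) ↔
      (u ∈ Cfsg.oddCore G ∨ (Nat.card (G ⧸ Cfsg.oddCore G) = 2 ∧ u ∉ Cfsg.oddCore G) ∨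
        (∃ (F : Type) (_ : Field F) (_ : Fintype F) (n : ℕ), 2 ≤ n ∧ Fintype.card F = 2 ^ n ∧
          Nonempty (G ⧸ Cfsg.oddCore G ≃* Matrix.ProjectiveSpecialLinearGroup (Fin 2) F) ∧
          u ∉ Cfsg.oddCore G ∧ u ^ 2 ∈ Cfsg.oddCore G)) := by
  haveI : Fact (Nat.Prime 2) := ⟨Nat.prime_two⟩
  set O := Cfsg.oddCore G with hO
  set v : G ⧸ O := QuotientGroup.mk' O u with hv
  have hvO : v = 1 ↔ u ∈ O := QuotientGroup.eq_one_iff u
  constructor
  · rintro ⟨k, hk⟩
    by_cases hu : u ∈ O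
    · exact Or.inl hu
    right
    have hcore : Cfsg.pPrimeCore 2 (G ⧸ O) = ⊥ := Cores.pPrimeCore_quotient_pPrimeCore 2
    have hk' : IsConst M v k := (isConst_quotient_iff hM).1 hk
    have hk0 : k ≠ 0 := by
      rintro rfl
      exact hu (hk.eq_zero_or hM)
    have h2 : 2 ∣ Nat.card (G ⧸ O) := by
      by_contra hodd
      have htop : (⊤ : Subgroup (G ⧸ O)) ≤ Cfsg.pPrimeCore 2 (G ⧸ O) :=
        Cores.le_pPrimeCore_of_not_dvd (by rwa [Subgroup.card_top])
      have hmem := htop (mem_top v)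
      rw [hcore, Subgroup.mem_bot] at hmem
      exact hu (hvO.1 hmem)
    obtain ⟨K, s, hS⟩ := exists_setting hM hcore h2 hk' hk0
    rcases classify hS with hc | ⟨F, _, _, n, hn, hF, hv2, -, he⟩
    · exact Or.inl ⟨hc, hu⟩
    · refine Or.inr ⟨F, inferInstance, inferInstance, n, hn, hF, he, hu,
        (QuotientGroup.eq_one_iff _).1 ?_⟩
      rw [pow_two]
      exact hv2
  · rintro (hu | ⟨h2, hu⟩ | ⟨F, _, _, n, hn, hF, ⟨e⟩, hu, hu2⟩)
    · refine ⟨0, (isConst_quotient_iff hM).2 ?_⟩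
      show IsConst M v 0
      rw [hvO.2 hu]
      exact isConst_one
    · exact ⟨2, (isConst_quotient_iff hM).2 (isConst_card_two h2 fun e1 => hu (hvO.1 e1))⟩
    · refine ⟨_, (isConst_quotient_iff hM).2 (isConst_psl (show n ≠ 0 by omega) hF e ?_
        fun e1 => hu (hvO.1 e1))⟩
      show v * v = 1
      rw [hv, ← map_mul, ← pow_two]
      exact (QuotientGroup.eq_one_iff _).2 hu2

end Cfsg.Agent.Lib.ConstDiff79
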