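import Cfsg.Agent.Lib.ConstDiff79.Basic
import Cfsg.Agent.Lib.BrauerMap.Inflation

/-!
# Passage to the quotient by the odd core (helper79)
-/

set_option autoImplicit false
set_option linter.style.haveILetI false
set_option linter.unusedSectionVars false

namespace Cfsg.Agent.Lib.ConstDiff79

open Cfsg.Agent.Lib.Characters.Basic

universe u

variable {M : Ideal Cfsg.AlgInt} [M.IsMaximal] {G : Type u} [Group G] [Finite G]

theorem isConst_quotient_iff (hM : Cfsg.IsPModular 2 M) {u : G} {k : ℂ} :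
    IsConst M u k ↔ IsConst M (QuotientGroup.mk' (Cfsg.pPrimeCore 2 G) u) k := by
  haveI : Fact (Nat.Prime 2) := ⟨Nat.prime_two⟩
  set O := Cfsg.pPrimeCore 2 G
  let f := QuotientGroup.mk' O
  have hf : Function.Surjective f := QuotientGroup.mk'_surjective O
  have hker : ¬ 2 ∣ Nat.card f.ker := by
    rw [QuotientGroup.ker_mk']; exact Cores.not_dvd_card_pPrimeCore 2
  have hone : BrauerMap.Inflation.infl f hf (oneChar (G ⧸ O)) = oneChar G := Subtype.ext rfl
  have hne : ∀ θ : Cfsg.IrrCharacter (G ⧸ O),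
      BrauerMap.Inflation.infl f hf θ = oneChar G ↔ θ = oneChar (G ⧸ O) := fun θ => by
    refine ⟨fun h => Subtype.ext (funext fun y => ?_), fun h => h ▸ hone⟩
    obtain ⟨g, rfl⟩ := hf y
    rw [← BrauerMap.Inflation.infl_apply f hf θ g, h]
    rfl
  have hval : ∀ (θ : Cfsg.IrrCharacter (G ⧸ O)) (g : G),
      (BrauerMap.Inflation.infl f hf θ : G → ℂ) g = (θ : G ⧸ O → ℂ) (f g) := fun θ g =>
    BrauerMap.Inflation.infl_apply f hf θ g
  constructor
  · intro h θ hθ
    obtain ⟨hθ1, hθB⟩ := mem_nontriv.1 hθ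
    have hB := BrauerMap.Inflation.sameBlock_infl f hf (χ := oneChar _) (ψ := θ) hθB
    rw [hone] at hB
    have h1 := h _ (mem_nontriv.2 ⟨fun e => hθ1 ((hne θ).1 e), hB⟩)
    rw [hval, hval, map_one] at h1
    exact h1
  · intro h χ hχ
    obtain ⟨hχ1, hχB⟩ := mem_nontriv.1 hχ
    obtain ⟨θ, rfl⟩ := BrauerMap.Inflation.exists_infl f hf χ fun g hg =>
      PrincipalCore.Basic.trivialOn_core hM hχB g ((QuotientGroup.eq_one_iff g).mp hg)
    have hθB : θ ∈ Cfsg.principalBlock M (G ⧸ O) :=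
      BrauerMap.Inflation.sameBlock_of_infl hM f hf hker (χ := oneChar _) (by rw [hone]; exact hχB)
    rw [hval, hval, map_one]
    exact h θ (mem_nontriv.2 ⟨fun e => hχ1 ((hne θ).2 e), hθB⟩)

end Cfsg.Agent.Lib.ConstDiff79
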