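import Cfsg.Agent.Lib.ConstDiff79.Basic
import Cfsg.Agent.S0721
import Cfsg.Agent.S0205
import Mathlib.GroupTheory.Abelianization.Finite
import Mathlib.Analysis.Complex.Polynomial.Basic
import Mathlib.RingTheory.RootsOfUnity.AlgebraicallyClosed
import Mathlib.GroupTheory.FiniteAbelian.Duality

/-!
# The structure forced by a nonzero constant difference (helper79)
-/

set_option autoImplicit false
set_option linter.style.haveILetI false
set_option linter.unusedSectionVars false

namespace Cfsg.Agent.Lib.ConstDiff79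

open Subgroup
open Cfsg.Agent.Lib.Blocks
open Cfsg.Agent.Lib.Characters.Basic

universe u

variable {M : Ideal Cfsg.AlgInt} [M.IsMaximal] {G : Type u} [Group G] [Finite G]

/-- The situation of a nonzero difference `K`, the odd core being trivial. -/
structure Setting (M : Ideal Cfsg.AlgInt) (u s : G) (K : ℕ) : Prop where
  prime : Cfsg.IsPModular 2 M
  core : Cfsg.pPrimeCore 2 G = ⊥
  even : 2 ∣ Nat.card G
  const : IsConst M u (K : ℂ)
  pos : 0 < K
  part : Cfsg.IsPPart 2 u s
  small : ∃ χ ∈ nontriv M G, Cfsg.charDegree (χ : G → ℂ) < K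

theorem exists_setting (hM : Cfsg.IsPModular 2 M) (hcore : Cfsg.pPrimeCore 2 G = ⊥)
    (h2 : 2 ∣ Nat.card G) {u : G} {k : ℂ} (hk : IsConst M u k) (hk0 : k ≠ 0) :
    ∃ (K : ℕ) (s : G), Setting M u s K := by
  obtain ⟨K, rfl, hK, hsmall⟩ := hk.exists_nat hM (hk.two_dvd_orderOf hk0 hM h2) h2
  obtain ⟨s, hs⟩ := exists_isPPart Nat.prime_two u
  exact ⟨K, s, hM, hcore, h2, hk, hK, hs, hsmall⟩

namespace Setting

variable {u s : G} {K : ℕ}

theorem K_ne (h : Setting M u s K) : (K : ℂ) ≠ 0 := Nat.cast_ne_zero.2 h.pos.ne'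

theorem singular (h : Setting M u s K) : 2 ∣ orderOf u :=
  h.const.two_dvd_orderOf h.K_ne h.prime h.even

theorem isConj (h : Setting M u s K) {z : G} (hz : ∃ n : ℕ, orderOf z = 2 ^ n) (hz1 : z ≠ 1) :
    IsConj s z :=
  h.const.isConj h.K_ne h.prime h.part hz hz1

theorem s_inv (h : Setting M u s K) : orderOf s = 2 := by
  haveI : Fact (Nat.Prime 2) := ⟨Nat.prime_two⟩
  obtain ⟨z, hz⟩ := exists_prime_orderOf_dvd_card' 2 h.even
  have hc := h.isConj ⟨1, by rw [hz, pow_one]⟩ fun e => by rw [e, orderOf_one] at hz; omega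
  obtain ⟨c, rfl⟩ := isConj_iff.1 hc
  rwa [Involutions.Basic.orderOf_conj_eq] at hz

theorem orderOf_eq_two (h : Setting M u s K) {z : G} (hz : ∃ n : ℕ, orderOf z = 2 ^ n)
    (hz1 : z ≠ 1) : orderOf z = 2 := by
  obtain ⟨c, rfl⟩ := isConj_iff.1 (h.isConj hz hz1)
  rw [Involutions.Basic.orderOf_conj_eq, h.s_inv]

theorem isConj_inv (h : Setting M u s K) {z : G} (hz : orderOf z = 2) : IsConj s z :=
  h.isConj ⟨1, by rw [hz, pow_one]⟩ fun e => by rw [e, orderOf_one] at hz; omega

theorem sq_eq_one (h : Setting M u s K) (P : Sylow 2 G) {x : G} (hx : x ∈ (P : Subgroup G)) :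
    x * x = 1 := by
  by_cases h1 : x = 1
  · rw [h1, one_mul]
  obtain ⟨n, hn⟩ := IsPGroup.iff_orderOf.1 P.2 ⟨x, hx⟩
  rw [Subgroup.orderOf_mk] at hn
  rw [← pow_two, ← h.orderOf_eq_two ⟨n, hn⟩ h1, pow_orderOf_eq_one]

theorem comm (h : Setting M u s K) (P : Sylow 2 G) {x y : G} (hx : x ∈ (P : Subgroup G))
    (hy : y ∈ (P : Subgroup G)) : x * y = y * x := by
  have hinv : ∀ z ∈ (P : Subgroup G), z⁻¹ = z := fun z hz =>
    inv_eq_of_mul_eq_one_right (h.sq_eq_one P hz)
  calc x * y = (x * y)⁻¹ := (hinv _ (mul_mem hx hy)).symm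
    _ = y * x := by rw [mul_inv_rev, hinv x hx, hinv y hy]

/-- A nontrivial normal subgroup contains all involutions and every Sylow 2-subgroup. -/
theorem mem_of_normal (h : Setting M u s K) {N : Subgroup G} [hN : N.Normal] (hne : N ≠ ⊥) :
    (∀ z : G, orderOf z = 2 → z ∈ N) ∧ ∀ P : Sylow 2 G, (P : Subgroup G) ≤ N := by
  haveI : Fact (Nat.Prime 2) := ⟨Nat.prime_two⟩
  have h2 : 2 ∣ Nat.card N := by
    by_contra hodd
    exact hne (le_bot_iff.1 (h.core ▸ Cores.le_pPrimeCore_of_not_dvd hodd))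
  obtain ⟨⟨z, hzN⟩, hz⟩ := exists_prime_orderOf_dvd_card' (G := N) 2 h2
  rw [Subgroup.orderOf_mk] at hz
  have h1 : ∀ w : G, orderOf w = 2 → w ∈ N := fun w hw => by
    obtain ⟨c, rfl⟩ := isConj_iff.1 ((h.isConj_inv hz).symm.trans (h.isConj_inv hw))
    exact hN.conj_mem z hzN c
  refine ⟨h1, fun P x hx => ?_⟩
  by_cases hx1 : x = 1
  · rw [hx1]; exact one_mem N
  exact h1 x (orderOf_eq_prime (by rw [pow_two]; exact h.sq_eq_one P hx) hx1)

/-- The normal closure of a normal subgroup with the centraliser of a Sylow subgroup is everything. -/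
theorem sup_centralizer (h : Setting M u s K) (P : Sylow 2 G) (N : Subgroup G) [hN : N.Normal]
    (hP : (P : Subgroup G) ≤ N) : N ⊔ centralizer ((P : Subgroup G) : Set G) = ⊤ := by
  haveI : Fact (Nat.Prime 2) := ⟨Nat.prime_two⟩
  set R := N ⊔ centralizer ((P : Subgroup G) : Set G) with hR
  haveI hRn : R.Normal := by
    refine normalizer_eq_top_iff.1 (top_le_iff.1 ?_)
    rw [← P.normalizer_sup_eq_top' hP]
    refine sup_le (fun n hn => ?_) ((le_sup_left : N ≤ R).trans le_normalizer)
    refine mem_normalizer_iff.2 fun x => ?_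
    have hconj : ∀ n' ∈ normalizer ((P : Subgroup G) : Set G), R.map (MulAut.conj n').toMonoidHom ≤ R := by
      intro n' hn'
      rw [hR, Subgroup.map_sup]
      refine sup_le_sup ?_ ?_
      · rintro _ ⟨y, hy, rfl⟩
        exact hN.conj_mem y hy n'
      · rintro _ ⟨y, hy, rfl⟩
        refine mem_centralizer_iff.2 fun p hp => ?_
        have hp' : n'⁻¹ * p * n'⁻¹⁻¹ ∈ (P : Subgroup G) :=
          (mem_normalizer_iff.1 (inv_mem hn') p).1 hp
        rw [inv_inv] at hp'
        have := mem_centralizer_iff.1 hy _ hp'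
        show p * (n' * y * n'⁻¹) = n' * y * n'⁻¹ * p
        calc p * (n' * y * n'⁻¹) = n' * (n'⁻¹ * p * n' * y) * n'⁻¹ := by group
          _ = n' * (y * (n'⁻¹ * p * n')) * n'⁻¹ := by rw [this]
          _ = _ := by group
    constructor
    · intro hx; exact hconj n hn ⟨x, hx, rfl⟩
    · intro hx
      have := hconj n⁻¹ (inv_mem hn) ⟨_, hx, rfl⟩
      simpa [mul_assoc] using this
  by_contra hne
  have hidx : ¬ 2 ∣ R.index := fun hd =>
    P.not_dvd_index (hd.trans (index_dvd_of_le (hP.trans le_sup_left)))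
  haveI : Group.IsSolvable (G ⧸ R) :=
    Cfsg.Agent.S0205.result (Nat.not_even_iff_odd.1 fun he => hidx he.two_dvd)
  haveI : Nontrivial (G ⧸ R) := Finite.one_lt_card_iff_nontrivial.1 (by
    rw [← Subgroup.index_eq_card]
    exact Nat.lt_of_le_of_ne (Nat.one_le_iff_ne_zero.2 Subgroup.index_ne_zero_of_finite)
      fun e => hne (Subgroup.index_eq_one.1 e.symm))
  obtain ⟨a, -, ha⟩ := SetLike.exists_of_lt
    (Group.IsSolvable.commutator_lt_top_of_nontrivial (G ⧸ R))
  have ha1 : Abelianization.of a ≠ 1 := fun e => ha (by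
    rwa [← MonoidHom.mem_ker, Abelianization.ker_of] at e)
  obtain ⟨φ, hφ⟩ := CommGroup.exists_apply_ne_one_of_hasEnoughRootsOfUnity
    (Abelianization (G ⧸ R)) ℂ ha1
  set μ : G →* ℂˣ := φ.comp (Abelianization.of.comp (QuotientGroup.mk' R)) with hμ
  have hμR : ∀ r ∈ R, μ r = 1 := fun r hr => by
    rw [hμ, MonoidHom.comp_apply, MonoidHom.comp_apply,
      show QuotientGroup.mk' R r = 1 from (QuotientGroup.eq_one_iff r).2 hr, map_one, map_one]
  have hv : ∀ g, (Characters.Linear.linChar μ : G → ℂ) g = (μ g : ℂ) :=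
    fun g => Characters.Linear.linChar_apply μ g
  have hmem := Cfsg.Agent.S4626.result 2 M h.prime P R hidx le_sup_right
    (Characters.Linear.linChar μ) fun r hr => by
      rw [hv, hv, hμR r hr, map_one]
  have hne1 : Characters.Linear.linChar μ ≠ oneChar G := fun e => hφ (by
    obtain ⟨g, rfl⟩ := QuotientGroup.mk'_surjective R a
    refine Units.ext ?_
    have h1 := congrArg (fun χ : Cfsg.IrrCharacter G => (χ : G → ℂ) g) e
    simp only [hv, oneChar_apply] at h1
    rw [Units.val_one]; exact h1)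
  have h1 := h.const _ (mem_nontriv.2 ⟨hne1, hmem⟩)
  rw [hv, hv, map_one, Units.val_one] at h1
  have h2 : (μ u : ℂ) ^ R.index = 1 := by
    rw [← Units.val_pow_eq_pow_val, ← map_pow, hμR _ (Subgroup.pow_index_mem R u), Units.val_one]
  rw [show (μ u : ℂ) = ((1 - (K : ℤ) : ℤ) : ℂ) by push_cast; linear_combination -h1,
    ← Int.cast_pow, Int.cast_eq_one] at h2
  have hodd : Odd R.index := Nat.odd_iff.2 (Nat.two_dvd_ne_zero.1 hidx)
  have h3 : (1 - (K : ℤ)) = 1 := hodd.pow_inj.1 (h2.trans (one_pow _).symm)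
  have := h.pos
  omega

open Classical in
theorem card_centralizer_pi {ι T : Type*} [Fintype ι] [Group T] (f : ι → T) :
    Nat.card (centralizer ({f} : Set (ι → T))) =
      ∏ i, Nat.card (centralizer ({f i} : Set T)) := by
  rw [← Nat.card_pi]
  exact Nat.card_congr
    { toFun := fun x i => ⟨x.1 i, mem_centralizer_singleton_iff.2
        (congrFun (mem_centralizer_singleton_iff.1 x.2) i)⟩
      invFun := fun x => ⟨fun i => (x i).1, mem_centralizer_singleton_iff.2
        (funext fun i => mem_centralizer_singleton_iff.1 (x i).2)⟩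
      left_inv := fun _ => rfl
      right_inv := fun _ => rfl }

/-- A group with constant difference is of order two or has a simple normal subgroup containing the
Sylow 2-subgroups and completed by their centralisers. -/
theorem structure' (h : Setting M u s K) :
    Nat.card G = 2 ∨ ∃ L : Subgroup G, L.Normal ∧ IsSimpleGroup L ∧ ¬ IsMulCommutative L ∧
      (∀ P : Sylow 2 G, (P : Subgroup G) ≤ L ∧
        L ⊔ centralizer ((P : Subgroup G) : Set G) = ⊤) ∧
      centralizer (L : Set G) = ⊥ := by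
  classical
  haveI : Fact (Nat.Prime 2) := ⟨Nat.prime_two⟩
  haveI hnt : Nontrivial G := Finite.one_lt_card_iff_nontrivial.1 (Nat.le_of_dvd Nat.card_pos h.even)
  obtain ⟨N, ⟨hNn, hNb⟩, hNmin⟩ := (wellFounded_lt (α := Subgroup G)).has_min
    {N | N.Normal ∧ N ≠ ⊥} ⟨⊤, inferInstance, top_ne_bot⟩
  haveI := hNn
  have hmin : ∀ R : Subgroup G, R.Normal → R ≤ N → R = ⊥ ∨ R = N := fun R hR hle =>
    or_iff_not_imp_left.2 fun hb => (lt_or_eq_of_le hle).resolve_left (hNmin R ⟨hR, hb⟩)
  obtain ⟨hinvN, hPN⟩ := h.mem_of_normal hNb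
  obtain ⟨P⟩ : Nonempty (Sylow 2 G) := inferInstance
  obtain ⟨T, iT, m, hT, hm, ⟨e⟩⟩ := Cfsg.Agent.S0721.result N hNb hmin
  haveI : Finite (Fin m → T) := Finite.of_equiv _ e.toEquiv
  haveI : Finite T := Finite.of_injective (fun t => (fun _ => t : Fin m → T))
    fun a b hab => congrFun hab ⟨0, hm⟩
  have hcardN : Nat.card N = Nat.card T ^ m := by
    rw [Nat.card_congr e.toEquiv, Nat.card_fun, Nat.card_fin]
  have h2N : 2 ∣ Nat.card N := by
    obtain ⟨z, hz⟩ := exists_prime_orderOf_dvd_card' 2 h.even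
    exact hz ▸ Subgroup.orderOf_dvd_natCard N (hinvN z hz)
  have h2T : 2 ∣ Nat.card T := Nat.prime_two.dvd_of_dvd_pow (hcardN ▸ h2N)
  haveI := hT
  by_cases hab : IsMulCommutative T
  · left
    have hTp : Nat.card T = 2 := by
      haveI := hab
      have := (Group.is_simple_iff_prime_card (α := T)).1 hT
      exact ((Nat.prime_dvd_prime_iff_eq Nat.prime_two this).1 h2T).symm
    have hN2 : IsPGroup 2 N := IsPGroup.of_card (n := m) (by rw [hcardN, hTp])
    have hNP : N = (P : Subgroup G) := P.3 hN2 (hPN P)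
    have htop := h.sup_centralizer P N (hPN P)
    rw [hNP, sup_eq_right.2 (fun x hx => mem_centralizer_iff.2 fun y hy => h.comm P hy hx)] at htop
    have hcen : ∀ x ∈ (P : Subgroup G), ∀ g : G, g * x = x * g := fun x hx g =>
      (mem_centralizer_iff.1 (htop ▸ mem_top g : g ∈ centralizer _) x hx).symm
    haveI : (P : Subgroup G).Normal := hNP ▸ hNn
    obtain ⟨D, hD⟩ := Subgroup.exists_right_complement'_of_coprime (N := (P : Subgroup G))
      P.card_coprime_index
    haveI : D.Normal := by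
      refine ⟨fun d hd g => ?_⟩
      obtain ⟨⟨p, d'⟩, rfl⟩ := hD.2 g
      show (p : G) * d' * d * ((p : G) * d')⁻¹ ∈ D
      have hq : (d' : G) * d * (d' : G)⁻¹ ∈ D := mul_mem (mul_mem d'.2 hd) (inv_mem d'.2)
      rw [show (p : G) * d' * d * ((p : G) * d')⁻¹ = (p : G) * ((d' : G) * d * (d' : G)⁻¹) * (p : G)⁻¹
        by group, ← hcen p p.2, mul_inv_cancel_right]
      exact hq
    have hD1 : D = ⊥ := le_bot_iff.1 (h.core ▸ Cores.le_pPrimeCore_of_not_dvd (by
      rw [← hD.symm.index_eq_card]; exact P.not_dvd_index))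
    subst hD1
    have hPtop : (P : Subgroup G) = ⊤ := isComplement'_bot_right.1 hD
    have hle : ∀ z : G, z = 1 ∨ z = s := fun z => by
      by_cases hz : z = 1
      · exact Or.inl hz
      have hzP : z ∈ (P : Subgroup G) := hPtop ▸ mem_top z
      have hsP : s ∈ (P : Subgroup G) := hPtop ▸ mem_top s
      obtain ⟨c, hc⟩ := isConj_iff.1 (h.isConj_inv
        (orderOf_eq_prime (by rw [pow_two]; exact h.sq_eq_one P hzP) hz))
      exact Or.inr (by rw [← hc, hcen s hsP c, mul_inv_cancel_right])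
    have hzp : zpowers s = ⊤ := eq_top_iff.2 fun z _ => by
      rcases hle z with rfl | rfl
      · exact one_mem _
      · exact mem_zpowers _
    rw [← h.s_inv, ← Nat.card_zpowers, hzp, Subgroup.card_top]
  right
  -- one factor
  have hm1 : m = 1 := by
    by_contra hne
    obtain ⟨t, ht⟩ := exists_prime_orderOf_dvd_card' (G := T) 2 h2T
    set i : Fin m := ⟨0, by omega⟩ with hi
    set j : Fin m := ⟨1, by omega⟩ with hj
    have hij : i ≠ j := by simp [hi, hj, Fin.ext_iff]
    set a : Fin m → T := Pi.mulSingle i t with ha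
    set b : Fin m → T := fun l => if l = i ∨ l = j then t else 1 with hb
    have horda : orderOf (e.symm a : G) = 2 := by
      rw [Subgroup.orderOf_coe, MulEquiv.orderOf_eq, ha]
      refine orderOf_eq_prime ?_ ?_
      · rw [← Pi.mulSingle_pow, ← ht, pow_orderOf_eq_one, Pi.mulSingle_one]
      · rw [Ne, Pi.mulSingle_eq_one_iff]
        exact fun e' => by rw [e', orderOf_one] at ht; omega
    have hordb : orderOf (e.symm b : G) = 2 := by
      rw [Subgroup.orderOf_coe, MulEquiv.orderOf_eq]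
      refine orderOf_eq_prime (funext fun l => ?_) fun e' => ?_
      · rw [Pi.pow_apply, hb]
        by_cases hl : l = i ∨ l = j
        · simp only [if_pos hl, Pi.one_apply]; rw [← ht, pow_orderOf_eq_one]
        · simp only [if_neg hl, one_pow, Pi.one_apply]
      · have := congrFun e' i
        rw [hb] at this
        simp only [true_or, if_true, Pi.one_apply] at this
        rw [this, orderOf_one] at ht; omega
    obtain ⟨c, hc⟩ := isConj_iff.1 ((h.isConj_inv horda).symm.trans (h.isConj_inv hordb))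
    let ψ : (Fin m → T) ≃* (Fin m → T) :=
      e.symm.trans ((MulAut.conjNormal c : MulAut N).trans e)
    have hψ : ψ a = b := by
      show e (MulAut.conjNormal c (e.symm a)) = b
      rw [show MulAut.conjNormal c (e.symm a) = e.symm b from Subtype.ext (by
        rw [MulAut.conjNormal_apply]; exact hc), MulEquiv.apply_symm_apply]
    have hcc : Nat.card (centralizer ({a} : Set (Fin m → T))) =
        Nat.card (centralizer ({b} : Set (Fin m → T))) :=
      Nat.card_congr (ψ.toEquiv.subtypeEquiv fun x => by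
        rw [mem_centralizer_singleton_iff, mem_centralizer_singleton_iff, ← hψ]
        show x * a = a * x ↔ ψ x * ψ a = ψ a * ψ x
        rw [← map_mul, ← map_mul, ψ.injective.eq_iff])
    rw [card_centralizer_pi, card_centralizer_pi, ← Finset.mul_prod_erase Finset.univ _
      (Finset.mem_univ i), ← Finset.mul_prod_erase (Finset.univ.erase i) _
      (Finset.mem_erase.2 ⟨hij.symm, Finset.mem_univ j⟩),
      ← Finset.mul_prod_erase Finset.univ (fun l => Nat.card (centralizer ({b l} : Set T)))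
      (Finset.mem_univ i), ← Finset.mul_prod_erase (Finset.univ.erase i) _
      (Finset.mem_erase.2 ⟨hij.symm, Finset.mem_univ j⟩)] at hcc
    rw [Finset.prod_congr rfl (g := fun l => Nat.card (centralizer ({a l} : Set T))) (s₁ := (Finset.univ.erase i).erase j)
      (f := fun l => Nat.card (centralizer ({b l} : Set T))) (fun l hl => by
        obtain ⟨hlj, hl'⟩ := Finset.mem_erase.1 hl
        have hli := (Finset.mem_erase.1 hl').1
        rw [ha, hb, Pi.mulSingle_eq_of_ne hli]
        simp [hli, hlj])] at hcc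
    have hpos : 0 < ∏ l ∈ (Finset.univ.erase i).erase j, Nat.card (centralizer ({a l} : Set T)) :=
      Finset.prod_pos fun l _ => Nat.card_pos
    have hai : a i = t := by rw [ha, Pi.mulSingle_eq_same]
    have haj : a j = 1 := by rw [ha, Pi.mulSingle_eq_of_ne hij.symm]
    have hbi : b i = t := by simp [hb]
    have hbj : b j = t := by simp [hb]
    rw [hai, haj, hbi, hbj] at hcc
    have h1 : Nat.card (centralizer ({(1 : T)} : Set T)) = Nat.card T := by
      rw [show centralizer ({(1 : T)} : Set T) = ⊤ from eq_top_iff.2 fun x _ =>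
        mem_centralizer_singleton_iff.2 (by simp), Subgroup.card_top]
    rw [h1] at hcc
    have hCT : Nat.card T = Nat.card (centralizer ({t} : Set T)) :=
      Nat.eq_of_mul_eq_mul_right hpos (Nat.eq_of_mul_eq_mul_left Nat.card_pos hcc)
    have htop : centralizer ({t} : Set T) = ⊤ := Subgroup.eq_top_of_card_eq _ hCT.symm
    have htc : t ∈ Subgroup.center T := mem_center_iff.2 fun x =>
      mem_centralizer_singleton_iff.1 (htop ▸ mem_top x)
    rcases Subgroup.Normal.eq_bot_or_eq_top (inferInstance : (Subgroup.center T).Normal) with hz | hz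
    · rw [hz, mem_bot] at htc; rw [htc, orderOf_one] at ht; omega
    · exact hab ⟨⟨fun x y => (mem_center_iff.1 (hz ▸ mem_top y) x)⟩⟩
  subst hm1
  let e1 : N ≃* T := e.trans (MulEquiv.funUnique (Fin 1) T)
  have hsimp : IsSimpleGroup N := e1.isSimpleGroup
  have hnab : ¬ IsMulCommutative N := fun hc => hab ⟨⟨fun x y => by
    obtain ⟨x, rfl⟩ := e1.surjective x
    obtain ⟨y, rfl⟩ := e1.surjective y
    rw [← map_mul, ← map_mul, hc.is_comm.comm x y]⟩⟩
  refine ⟨N, hNn, hsimp, hnab, fun Q => ⟨hPN Q, h.sup_centralizer Q N (hPN Q)⟩, ?_⟩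
  haveI hCn : (centralizer (N : Set G)).Normal := by
    refine ⟨fun x hx g => mem_centralizer_iff.2 fun n hn => ?_⟩
    have h1 : g⁻¹ * n * g⁻¹⁻¹ ∈ N := hNn.conj_mem n hn g⁻¹
    rw [inv_inv] at h1
    have := mem_centralizer_iff.1 hx _ h1
    calc n * (g * x * g⁻¹) = g * (g⁻¹ * n * g * x) * g⁻¹ := by group
      _ = g * (x * (g⁻¹ * n * g)) * g⁻¹ := by rw [this]
      _ = _ := by group
  by_contra hC
  have hne : centralizer (N : Set G) ⊓ N ≠ N := fun he => hnab ⟨⟨fun x y => Subtype.ext
    ((mem_centralizer_iff.1 ((he.symm ▸ x.2 : (x : G) ∈ centralizer (N : Set G) ⊓ N)).1 y y.2).symm)⟩⟩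
  have hbot := (hmin _ inferInstance inf_le_right).resolve_right hne
  obtain ⟨z, hz⟩ := exists_prime_orderOf_dvd_card' 2 h.even
  have : z ∈ centralizer (N : Set G) ⊓ N := ⟨(h.mem_of_normal hC).1 z hz, hinvN z hz⟩
  rw [hbot, mem_bot] at this
  rw [this, orderOf_one] at hz
  omega

end Setting

end Cfsg.Agent.Lib.ConstDiff79
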