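import Cfsg.Agent.Lib.ConstDiff79.Structure

/-!
# Small tools for the case analysis (helper79)
-/

set_option autoImplicit false
set_option linter.style.haveILetI false
set_option linter.unusedSectionVars false

namespace Cfsg.Agent.Lib.ConstDiff79

open Subgroup
open scoped ComplexConjugate
open Cfsg.Agent.Lib.Blocks
open Cfsg.Agent.Lib.Characters.Basic

universe u

variable {G : Type u} [Group G] [Finite G]

/-- An element of the normaliser whose square centralises an abelian Sylow subgroup centralises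
it. -/
theorem mem_centralizer_of_sq (P : Sylow 2 G)
    (hab : ∀ x ∈ (P : Subgroup G), ∀ y ∈ (P : Subgroup G), x * y = y * x) {n : G}
    (hn : n ∈ normalizer ((P : Subgroup G) : Set G))
    (h2 : n * n ∈ centralizer ((P : Subgroup G) : Set G)) :
    n ∈ centralizer ((P : Subgroup G) : Set G) := by
  haveI : Fact (Nat.Prime 2) := ⟨Nat.prime_two⟩
  set N := normalizer ((P : Subgroup G) : Set G)
  set C := centralizer ((P : Subgroup G) : Set G)
  haveI : (C.subgroupOf N).Normal := by
    rw [← Subgroup.normalizerMonoidHom_ker]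
    infer_instance
  have hPC : (P : Subgroup G) ≤ C := fun x hx => mem_centralizer_iff.2 fun y hy => hab y hy x hx
  have hodd : ¬ 2 ∣ C.relIndex N := fun h => P.not_dvd_index
    ((h.trans (Dvd.intro _ (C.relIndex_mul_index (centralizer_le_normalizer _)))).trans
      (index_dvd_of_le hPC))
  have h1 := Subgroup.pow_index_mem (C.subgroupOf N) (⟨n, hn⟩ : N)
  obtain ⟨j, hj⟩ := Nat.odd_iff.2 (Nat.two_dvd_ne_zero.1 hodd)
  rw [show (C.subgroupOf N).index = 2 * j + 1 from hj, mem_subgroupOf, coe_pow, pow_succ,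
    pow_mul, pow_two] at h1
  exact (mul_mem_cancel_left (pow_mem h2 j)).1 h1

/-- A 2-element centralising a Sylow subgroup lies in it. -/
theorem mem_sylow_of_commute (P : Sylow 2 G) {z : G} (hz : ∃ n : ℕ, orderOf z = 2 ^ n)
    (hc : z ∈ centralizer ((P : Subgroup G) : Set G)) : z ∈ (P : Subgroup G) := by
  haveI : Fact (Nat.Prime 2) := ⟨Nat.prime_two⟩
  obtain ⟨n, hn⟩ := hz
  have h2 : IsPGroup 2 (zpowers z) := IsPGroup.of_card (n := n) (by rw [Nat.card_zpowers, hn])
  have hle : zpowers z ≤ normalizer ((P : Subgroup G) : Set G) :=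
    zpowers_le.2 (centralizer_le_normalizer _ hc)
  have hS := IsPGroup.to_sup_of_normal_right' h2 P.2 hle
  rw [← P.3 hS le_sup_right]
  exact mem_sup_left (mem_zpowers z)

/-- If the elements of odd order centralising a Sylow subgroup lie in `N`, then `N` contains the
centraliser. -/
theorem centralizer_le_of_odd (P : Sylow 2 G) {N : Subgroup G} (hP : (P : Subgroup G) ≤ N)
    (hodd : ∀ f ∈ centralizer ((P : Subgroup G) : Set G), Odd (orderOf f) → f ∈ N) :
    centralizer ((P : Subgroup G) : Set G) ≤ N := by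
  intro c hc
  obtain ⟨z, hz⟩ := exists_isPPart Nat.prime_two c
  have hzc := BrauerMap.PrincipalSection.isPPart_mem_zpowers Nat.prime_two hz
  obtain ⟨f, rfl, -, hz2, hf⟩ := hz
  have hzC : z ∈ centralizer ((P : Subgroup G) : Set G) := zpowers_le.2 hc hzc
  refine mul_mem (hP (mem_sylow_of_commute P hz2 hzC)) (hodd f ?_ (Nat.odd_iff.2 (Nat.two_dvd_ne_zero.1 hf)))
  exact (mul_mem_cancel_left hzC).1 hc

/-- A character of a subgroup with a value different from the degree has such a constituent. -/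
theorem exists_constituent (H : Subgroup G) [Fintype H] [Fintype (Cfsg.IrrCharacter H)]
    (χ : Cfsg.IrrCharacter G) {x : H} (hx : (χ : G → ℂ) x ≠ (χ : G → ℂ) 1) :
    ∃ m : Cfsg.IrrCharacter H → ℕ,
      (∀ y : H, (χ : G → ℂ) y = ∑ η, (m η : ℂ) * (η : H → ℂ) y) ∧
      (Cfsg.charDegree (χ : G → ℂ) = ∑ η, m η * Cfsg.charDegree (η : H → ℂ)) ∧
      ∃ η : Cfsg.IrrCharacter H, 0 < m η ∧ (η : H → ℂ) x ≠ (η : H → ℂ) 1 := by
  classical
  have hres : Cfsg.IsCharacter H (fun h : H => (χ : G → ℂ) h) :=
    isCharacter_comp H.subtype (isCharacter_irr χ)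
  choose m hm using fun η : Cfsg.IrrCharacter H => exists_classInner_nat hres (isCharacter_irr η)
  have hexp := Characters.Complete.classFunction_eq_sum (isClassFunction_of_isCharacter hres)
  have hy : ∀ y : H, (χ : G → ℂ) y = ∑ η, (m η : ℂ) * (η : H → ℂ) y := fun y => by
    have := congrFun hexp y
    simpa [Finset.sum_apply, hm] using this
  refine ⟨m, hy, ?_, ?_⟩
  · have h1 := hy 1
    simp only [OneMemClass.coe_one, char_one_eq_degree] at h1
    exact_mod_cast h1
  · by_contra hall
    push Not at hall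
    refine hx ?_
    rw [show (χ : G → ℂ) 1 = (χ : G → ℂ) ((1 : H) : G) by rw [OneMemClass.coe_one], hy, hy]
    refine Finset.sum_congr rfl fun η _ => ?_
    rcases Nat.eq_zero_or_pos (m η) with h0 | h0
    · rw [h0, Nat.cast_zero, zero_mul, zero_mul]
    · rw [hall η h0]

/-- The squared values on a cyclic subgroup. -/
theorem exists_sum_sq_pow (χ : Cfsg.IrrCharacter G) (g : G) :
    ∃ n : ℕ, ∑ i ∈ Finset.range (orderOf g), (χ : G → ℂ) (g ^ i) * conj ((χ : G → ℂ) (g ^ i)) =
      (orderOf g : ℂ) * n := by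
  classical
  haveI := Fintype.ofFinite (zpowers g)
  have hres : Cfsg.IsCharacter (zpowers g) (fun h : zpowers g => (χ : G → ℂ) h) :=
    isCharacter_comp (zpowers g).subtype (isCharacter_irr χ)
  obtain ⟨n, hn⟩ := exists_classInner_nat hres hres
  refine ⟨n, ?_⟩
  rw [Cfsg.classInner, Nat.card_zpowers,
    inv_mul_eq_iff_eq_mul₀ (Nat.cast_ne_zero.2 (orderOf_pos g).ne')] at hn
  rw [← hn, ← Fin.sum_univ_eq_sum_range
    (fun i => (χ : G → ℂ) (g ^ i) * conj ((χ : G → ℂ) (g ^ i))),
    ← Equiv.sum_comp (finEquivZPowers (isOfFinOrder_of_finite g))]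
  exact Finset.sum_congr rfl fun i _ => by rw [finEquivZPowers_apply]

end Cfsg.Agent.Lib.ConstDiff79
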